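import Cfsg.Agent.Lib.Perm.FewSylowTwo
import Cfsg.Agent.Lib.Perm.DihedralNormalizer
import Cfsg.Agent.Lib.Signalizer.Count
import Cfsg.Agent.Lib.TwoGroups.SmallOrders.Tools

/-!
# Simple groups of degree `3 p` with Sylow normalizer of order `2 p` (S3254): first facts

Owner: helper5.

* `Hyp`: the hypotheses.  `Hyp.sylow_facts`, `Hyp.not_dvd_stabilizer`, `Hyp.exists_frame_two`.
* `Hyp.isConj_involution`: one class of involutions; `Hyp.two_part_centralizer`.
* `Hyp.fixed_involution`: every involution fixes one point or every one fixes three.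
-/

set_option autoImplicit false
set_option linter.unusedSectionVars false

namespace CfsgLib.DegreeThreeP

open Subgroup MulAction CfsgLib.Perm
open scoped commutatorElement

/-- The hypotheses. -/
structure Hyp (G Ω : Type*) [Group G] [MulAction G Ω] (p : ℕ) (P : Sylow p G) : Prop where
  prime : p.Prime
  five : 5 ≤ p
  na : ¬ IsMulCommutative G
  trans : IsPretransitive G Ω
  faith : FaithfulSMul G Ω
  card : Nat.card Ω = 3 * p
  norm : Nat.card ↥(normalizer ((P : Subgroup G) : Set G)) = 2 * p

/-- The exponent of two in a number. -/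
def v2 (n : ℕ) : ℕ := n.factorization 2

theorem v2_mul {a b : ℕ} (ha : a ≠ 0) (hb : b ≠ 0) : v2 (a * b) = v2 a + v2 b := by
  simp [v2, Nat.factorization_mul ha hb]

theorem v2_of_odd {a : ℕ} (ha : a % 2 = 1) : v2 a = 0 :=
  Nat.factorization_eq_zero_of_not_dvd (by omega)

theorem v2_two : v2 2 = 1 := Nat.Prime.factorization_self Nat.prime_two

theorem v2_pow {a : ℕ} (k : ℕ) : v2 (a ^ k) = k * v2 a := by simp [v2, Nat.factorization_pow]

theorem two_pow_v2_dvd (a : ℕ) : 2 ^ v2 a ∣ a := Nat.ordProj_dvd a 2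

theorem le_v2 {a k : ℕ} (ha : a ≠ 0) (h : 2 ^ k ∣ a) : k ≤ v2 a :=
  (Nat.prime_two.pow_dvd_iff_le_factorization ha).1 h

/-- Conjugate elements have centralisers of the same order. -/
theorem card_centralizer_of_isConj {H : Type*} [Group H] {a b : H} (hab : IsConj a b) :
    Nat.card (centralizer ({a} : Set H)) = Nat.card (centralizer ({b} : Set H)) := by
  obtain ⟨g, rfl⟩ := isConj_iff.1 hab
  refine Nat.card_congr ((MulAut.conj g).toEquiv.subtypeEquiv fun x => ?_)
  simp only [mem_centralizer_singleton_iff, MulEquiv.toEquiv_eq_coe, EquivLike.coe_coe, MulAut.conj_apply]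
  rw [show g * x * g⁻¹ * (g * a * g⁻¹) = g * (x * a) * g⁻¹ by group,
    show g * a * g⁻¹ * (g * x * g⁻¹) = g * (a * x) * g⁻¹ by group, mul_left_inj, mul_right_inj]

variable {G Ω : Type*} [Group G] [Finite G] [IsSimpleGroup G] [MulAction G Ω] [Finite Ω]
  {p : ℕ} [Fact p.Prime] {P : Sylow p G}

namespace Hyp

variable (h : Hyp G Ω p P)
include h

theorem card_index (x : Ω) : 3 * p * Nat.card (stabilizer G x) = Nat.card G := by
  haveI := h.trans
  rw [← h.card, ← index_stabilizer_of_transitive G x]
  exact index_mul_card _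

theorem dvd_card : p ∣ Nat.card G :=
  (dvd_mul_left p 2).trans (h.norm ▸ card_subgroup_dvd_card _)

theorem card_P : Nat.card (P : Subgroup G) = p := by
  obtain ⟨k, hk⟩ := IsPGroup.iff_card.1 P.isPGroup'
  have h1 : p ^ k ∣ 2 * p := hk ▸ h.norm ▸ card_dvd_of_le le_normalizer
  have hp5 := h.five
  rcases Nat.lt_or_ge k 2 with h2 | h2
  · interval_cases k
    · exact absurd (eq_bot_of_card_eq _ (by rw [hk, pow_zero])) (P.ne_bot_of_dvd_card h.dvd_card)
    · rw [hk, pow_one]
  · exfalso
    have h3 : p ^ 2 ∣ 2 * p := (pow_dvd_pow p h2).trans h1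
    rw [pow_two] at h3
    have := Nat.le_of_dvd two_pos (Nat.dvd_of_mul_dvd_mul_right h.prime.pos h3)
    omega

theorem not_dvd_stabilizer (x : Ω) : ¬ p ∣ Nat.card (stabilizer G x) := by
  intro hd
  have h1 : p ^ 2 ∣ Nat.card G := by
    rw [← h.card_index x, pow_two]
    exact Nat.mul_dvd_mul (dvd_mul_left p 3) hd
  have := (h.prime.pow_dvd_iff_le_factorization Nat.card_pos.ne').1 h1
  have h2 := P.card_eq_multiplicity
  rw [h.card_P] at h2
  have h3 : (Nat.card G).factorization p = 1 :=
    Nat.pow_right_injective h.prime.two_le (h2.symm.trans (pow_one p).symm)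
  omega

/-- Elements of order `p` move every point. -/
theorem smul_ne {z : G} (hz : orderOf z = p) (x : Ω) : z • x ≠ x := fun e => by
  refine h.not_dvd_stabilizer x ?_
  rw [← hz, ← Subgroup.orderOf_mk z (show z ∈ stabilizer G x from e)]
  exact orderOf_dvd_natCard _

theorem perf : commutator G = ⊤ := by
  rcases (inferInstance : (commutator G).Normal).eq_bot_or_eq_top with hb | ht
  · refine absurd ⟨⟨fun a b => ?_⟩⟩ h.na
    have hab : ⁅a, b⁆ ∈ commutator G := by
      rw [_root_.commutator_def]; exact commutator_mem_commutator (mem_top a) (mem_top b)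
    rw [hb, mem_bot] at hab
    exact commutatorElement_eq_one_iff_mul_comm.1 hab
  · exact ht

theorem not_isPGroup : ¬ IsPGroup p G := by
  intro hG
  obtain ⟨k, hk⟩ := IsPGroup.iff_card.1 hG
  have h2 : 2 ∣ p ^ k := hk ▸ ((dvd_mul_right 2 p).trans (h.norm ▸ card_subgroup_dvd_card _))
  have := (Nat.prime_dvd_prime_iff_eq Nat.prime_two h.prime).1 (Nat.prime_two.dvd_of_dvd_pow h2)
  have := h.five
  omega

theorem centralizer_P : centralizer ((P : Subgroup G) : Set G) = (P : Subgroup G) := by
  haveI : IsCyclic (P : Subgroup G) := isCyclic_of_prime_card h.card_P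
  have hPC : (P : Subgroup G) ≤ centralizer ((P : Subgroup G) : Set G) := fun y hy =>
    mem_centralizer_iff.2 fun z hz => congrArg Subtype.val
      ((IsCyclic.commGroup (α := (P : Subgroup G))).mul_comm ⟨z, hz⟩ ⟨y, hy⟩)
  obtain ⟨k, hk⟩ := h.card_P ▸ card_dvd_of_le hPC
  have h3 : Nat.card (centralizer ((P : Subgroup G) : Set G)) ∣ 2 * p :=
    h.norm ▸ card_dvd_of_le (centralizer_le_normalizer _)
  rw [hk, mul_comm 2 p] at h3
  rcases (Nat.dvd_prime Nat.prime_two).1 (Nat.dvd_of_mul_dvd_mul_left h.prime.pos h3) with e | e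
  · exact (eq_of_le_of_card_ge hPC (by rw [hk, e, mul_one, h.card_P])).symm
  · exfalso
    have heq : centralizer ((P : Subgroup G) : Set G) = normalizer ((P : Subgroup G) : Set G) :=
      eq_of_le_of_card_ge (centralizer_le_normalizer _) (by rw [hk, e, h.norm, mul_comm])
    exact not_normalizer_le_centralizer P h.dvd_card h.not_isPGroup heq.ge

theorem exists_frame_two [Fintype G] : ∃ a t n, FewSylow.Frame P a 2 t n := by
  obtain ⟨a, e, t, n, F⟩ := FewSylow.exists_frame P h.card_P h.centralizer_P h.perf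
  have he : e = 2 := Nat.eq_of_mul_eq_mul_right h.prime.pos (F.cardN ▸ h.norm)
  subst he
  exact ⟨a, t, n, F⟩

/-- All involutions are conjugate. -/
theorem isConj_involution {s t : G} (hs : orderOf s = 2) (ht : orderOf t = 2) : IsConj s t := by
  obtain ⟨x, v, u, -, -, -, -, -, -, -, -, hall⟩ :=
    exists_degree_of_card_normalizer_two_mul' h.five P h.card_P h.not_isPGroup h.norm
  exact (hall s hs).symm.trans (hall t ht)

theorem even_card : 2 ∣ Nat.card G := (dvd_mul_right 2 p).trans (h.norm ▸ card_subgroup_dvd_card _)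

theorem two_le_v2 : 2 ≤ v2 (Nat.card G) := by
  by_contra hlt
  haveI := Fact.mk Nat.prime_two
  obtain ⟨S⟩ : Nonempty (Sylow 2 G) := inferInstance
  have hc := S.card_eq_multiplicity
  have hd : Nat.card (S : Subgroup G) ∣ 2 := by
    rw [hc]
    calc 2 ^ (Nat.card G).factorization 2 ∣ 2 ^ 1 := pow_dvd_pow 2 (by unfold v2 at hlt; omega)
      _ = 2 := pow_one 2
  haveI : IsCyclic (S : Subgroup G) := by
    rcases (Nat.dvd_prime Nat.prime_two).1 hd with e | e
    · haveI : Subsingleton (S : Subgroup G) := (Nat.card_eq_one_iff_unique.1 e).1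
      exact isCyclic_of_subsingleton
    · exact isCyclic_of_prime_card e
  obtain ⟨H, hH⟩ := CfsgLib.Signalizer.index_two_of_cyclic_sylow (even_iff_two_dvd.2 h.even_card) S inferInstance
  haveI : H.Normal := normal_of_index_eq_two hH
  rcases (inferInstance : H.Normal).eq_bot_or_eq_top with e | e
  · subst e
    rw [index_bot] at hH
    exact h.na ⟨⟨fun a b => by
      haveI := Fact.mk Nat.prime_two
      haveI : IsCyclic G := isCyclic_of_prime_card hH
      exact (IsCyclic.commGroup (α := G)).mul_comm a b⟩⟩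
  · subst e
    rw [index_top] at hH
    omega

/-- The centraliser of an involution contains a Sylow `2`-subgroup. -/
theorem v2_centralizer {t : G} (ht : orderOf t = 2) :
    v2 (Nat.card (centralizer ({t} : Set G))) = v2 (Nat.card G) := by
  refine le_antisymm ?_ (le_v2 Nat.card_pos.ne' ?_)
  · exact (Nat.factorization_le_iff_dvd Nat.card_pos.ne' Nat.card_pos.ne').2
      (card_subgroup_dvd_card _) 2
  · refine two_part_dvd_card_centralizer (m := Nat.card G / 2 ^ v2 (Nat.card G)) ?_ ?_ ?_
      fun y hy => h.isConj_involution ht hy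
    · have := h.two_le_v2; omega
    · exact (Nat.ordProj_mul_ordCompl_eq_self _ 2).symm
    · exact Nat.not_dvd_ordCompl Nat.prime_two Nat.card_pos.ne'

theorem not_dvd_centralizer {t : G} (ht : orderOf t = 2) :
    ¬ p ∣ Nat.card (centralizer ({t} : Set G)) := by
  intro hd
  obtain ⟨⟨y, hy⟩, hyo⟩ := exists_prime_orderOf_dvd_card' (G := centralizer ({t} : Set G)) p hd
  rw [Subgroup.orderOf_mk] at hyo
  obtain ⟨Q, hQ⟩ := (IsPGroup.of_card (n := 1) (G := zpowers y)
    (by rw [Nat.card_zpowers, hyo, pow_one])).exists_le_sylow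
  obtain ⟨w, hw⟩ := MulAction.exists_smul_eq G P Q
  have hyQ : y ∈ (Q : Subgroup G) := hQ (mem_zpowers y)
  rw [← hw, Sylow.coe_subgroup_smul, mem_pointwise_smul_iff_inv_smul_mem, ← map_inv,
    MulAut.smul_def, MulAut.conj_apply, inv_inv] at hyQ
  have hy1 : w⁻¹ * y * w ≠ 1 := fun e => by
    have : y = 1 := by
      calc y = w * (w⁻¹ * y * w) * w⁻¹ := by group
        _ = 1 := by rw [e]; group
    rw [this, orderOf_one] at hyo
    exact h.prime.ne_one hyo.symm
  have hc : w⁻¹ * t * w ∈ centralizer ((P : Subgroup G) : Set G) := by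
    rw [← centralizer_eq_of_prime_card h.prime h.card_P hyQ hy1, mem_centralizer_singleton_iff]
    have e := mem_centralizer_singleton_iff.1 hy
    calc w⁻¹ * t * w * (w⁻¹ * y * w) = w⁻¹ * (t * y) * w := by group
      _ = w⁻¹ * (y * t) * w := by rw [e]
      _ = w⁻¹ * y * w * (w⁻¹ * t * w) := by group
  rw [h.centralizer_P] at hc
  have ho : orderOf (w⁻¹ * t * w) = 2 := by
    rw [← ht]
    simpa using (MulAut.conj w⁻¹).orderOf_eq t
  have h1 := Subgroup.orderOf_dvd_natCard (P : Subgroup G) hc
  rw [ho, h.card_P] at h1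
  have := (Nat.prime_dvd_prime_iff_eq Nat.prime_two h.prime).1 h1
  have := h.five
  omega

/-- Conjugate elements fix equally many points. -/
theorem card_fixedBy_conj {s t : G} (hst : IsConj s t) :
    Nat.card (fixedBy Ω s) = Nat.card (fixedBy Ω t) := by
  obtain ⟨g, rfl⟩ := isConj_iff.1 hst
  refine Nat.card_congr
    { toFun := fun x => ⟨g • (x : Ω), ?_⟩
      invFun := fun x => ⟨g⁻¹ • (x : Ω), ?_⟩
      left_inv := fun x => Subtype.ext (inv_smul_smul g _)
      right_inv := fun x => Subtype.ext (smul_inv_smul g _) }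
  · have := x.2; simp only [mem_fixedBy] at this ⊢
    rw [mul_smul, inv_smul_smul, mul_smul, this]
  · have := x.2; simp only [mem_fixedBy] at this ⊢
    rw [mul_smul, mul_smul] at this
    exact inv_smul_eq_iff.2 this.symm |>.symm

/-- Every involution fixes the same number of points, one or three, and `4` divides `3 p` less that number. -/
theorem fixed_involution : ∃ φ : ℕ, (φ = 1 ∧ p % 4 = 3 ∨ φ = 3 ∧ p % 4 = 1) ∧
    ∀ t : G, orderOf t = 2 → Nat.card (fixedBy Ω t) = φ := by
  classical
  haveI := Fintype.ofFinite G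
  obtain ⟨a, t, n, F⟩ := h.exists_frame_two
  have ha2 : a * a = 1 := by rw [← pow_two, ← F.ord, pow_orderOf_eq_one]
  have hp5 := h.five
  -- `a` inverts `P`
  have haP : a ∉ (P : Subgroup G) := fun e => by
    have := F.eq_one_of_mem e (mem_zpowers a)
    have h' := F.ord
    rw [this, orderOf_one] at h'
    omega
  have hself : CfsgLib.CA.SelfCent (P : Subgroup G) := fun x hx hx1 => by
    rw [centralizer_eq_of_prime_card h.prime h.card_P hx hx1, h.centralizer_P]
  have hind : (P : Subgroup G).relIndex (normalizer ((P : Subgroup G) : Set G)) = 2 := by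
    have h' := SelfCentDegree.card_subgroupOf_normalizer (P : Subgroup G)
    rw [h.norm, h.card_P] at h'
    exact (Nat.eq_of_mul_eq_mul_right h.prime.pos h').symm
  have hinv := (SelfCentDegree.sq_eq_one_and_inverts hself hind F.mem haP).2
  have hle : Nat.card (fixedBy Ω a) ≤ 3 := by
    -- fixed points lie in different orbits of `P`
    have hinj : Function.Injective fun x : fixedBy Ω a =>
        (Quotient.mk'' (x : Ω) : orbitRel.Quotient (P : Subgroup G) Ω) := by
      rintro ⟨x, hx⟩ ⟨y, hy⟩ e
      obtain ⟨⟨z, hz⟩, hzy⟩ := MulAction.orbitRel_apply.1 (Quotient.eq''.1 e)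
      have hzy' : z • y = x := hzy
      refine Subtype.ext ?_
      show x = y
      by_contra hne
      have hz1 : z ≠ 1 := fun e' => hne (by rw [← hzy', e', one_smul])
      have hzi := hinv z hz
      have h1 : z⁻¹ • y = x := by
        rw [mem_fixedBy] at hx hy
        calc z⁻¹ • y = (a * z * a⁻¹) • y := by rw [hzi]
          _ = a • z • y := by
            rw [inv_eq_of_mul_eq_one_right ha2, mul_smul, mul_smul, hy]
          _ = x := by rw [hzy', hx]
      have h2 : (z * z) • y = y := by
        rw [mul_smul, hzy', ← h1, smul_inv_smul]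
      have ho : orderOf (z * z) = p := by
        have hzo : orderOf z ∣ p := h.card_P ▸ Subgroup.orderOf_dvd_natCard _ hz
        have hzo' := ((Nat.dvd_prime h.prime).1 hzo).resolve_left fun e' => hz1 (orderOf_eq_one_iff.1 e')
        rw [← pow_two, Nat.Coprime.orderOf_pow (by
          rw [hzo']
          exact h.prime.coprime_iff_not_dvd.2 fun e' => by
            have := Nat.le_of_dvd two_pos e'; omega), hzo']
      exact h.smul_ne ho y h2
    refine (Nat.card_le_card_of_injective _ hinj).trans ?_
    have horb : ∀ x : Ω, Nat.card (orbit (P : Subgroup G) x) = p := fun x => by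
      have h1 := Nat.card_congr (orbitProdStabilizerEquivGroup (P : Subgroup G) x)
      rw [Nat.card_prod, h.card_P] at h1
      have hbot : stabilizer (P : Subgroup G) x = ⊥ := (Subgroup.eq_bot_iff_forall _).2 fun z hz => by
        by_contra hne
        have hzo : orderOf (z : G) ∣ p :=
          (Subgroup.orderOf_dvd_natCard (P : Subgroup G) z.2).trans h.card_P.dvd
        exact h.smul_ne (((Nat.dvd_prime h.prime).1 hzo).resolve_left
          fun e' => hne (Subtype.ext (orderOf_eq_one_iff.1 e'))) x hz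
      rwa [hbot, card_bot, mul_one] at h1
    haveI := Fintype.ofFinite (orbitRel.Quotient (P : Subgroup G) Ω)
    have h1 := Nat.card_congr (selfEquivSigmaOrbits (P : Subgroup G) Ω)
    rw [h.card, Nat.card_sigma] at h1
    rw [Finset.sum_congr rfl fun q _ => horb _, Finset.sum_const, Finset.card_univ, smul_eq_mul,
      ← Nat.card_eq_fintype_card] at h1
    exact le_of_eq (Nat.eq_of_mul_eq_mul_right h.prime.pos h1).symm
  have hpodd : p % 2 = 1 := Nat.odd_iff.1 (h.prime.odd_of_ne_two (by omega))
  obtain ⟨h4, -⟩ := CfsgLib.TwoGroups.SmallOrders.four_dvd_moved h.na (α := Ω) ha2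
  have hfix : Nat.card {x : Ω // a • x = x} = Nat.card (fixedBy Ω a) := rfl
  rw [h.card, hfix] at h4
  refine ⟨Nat.card (fixedBy Ω a), by omega, fun s hs => card_fixedBy_conj h (h.isConj_involution hs F.ord)⟩

end Hyp

end CfsgLib.DegreeThreeP
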