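import Cfsg.Agent.Lib.DegreeThreeP.Basic
import Cfsg.Agent.Lib.Classical.Dickson.SubgroupFacts
import Cfsg.Agent.Lib.Classical.Unitary.Matrix
import Cfsg.Agent.Lib.Classical.Unitary.Structure
import Cfsg.Prelude.Def_Involutions
import Cfsg.Prelude.Def_Classical
import Cfsg.Prelude.Def_Exceptional

/-!
# Strongly embedded point stabilisers in degree `3 p` (S3254)

Owner: helper5.

* `BenderStmt`: the classification of simple groups with a strongly embedded subgroup, as in S0222.
* `Hyp.false_of_one_fixed`: no group has every involution fix one point and the counting equation of degree `3 p - 1`.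
-/

set_option autoImplicit false
set_option linter.unusedSectionVars false

namespace CfsgLib.DegreeThreeP

open Subgroup MulAction CfsgLib.Classical CfsgLib.Classical.Herm

universe u

/-- The conclusion of Bender's theorem for simple groups, as in S0222. -/
def BenderStmt : Prop :=
  ∀ (G : Type u) [Group G] [Finite G] [IsSimpleGroup G], (∃ a b : G, a * b ≠ b * a) →
    ∀ H : Subgroup G, Cfsg.IsStronglyEmbedded H →
      (∃ (F : Type) (_ : Field F) (_ : Fintype F), CharP F 2 ∧ 4 ≤ Fintype.card F ∧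
          Nonempty (G ≃* Matrix.ProjectiveSpecialLinearGroup (Fin 2) F)) ∨
        Cfsg.IsSuzuki G ∨
        (∃ (F : Type) (_ : Field F) (_ : Fintype F) (q : ℕ), Fintype.card F = q ^ 2 ∧ Even q ∧ 4 ≤ q ∧
          Nonempty (G ≃* Cfsg.PSU 3 F q))

/-- A power of two `Q` dividing `3 p - 1` with `p ∣ Q ± 1` is `3 p - 1` itself. -/
theorem eq_of_dvd_pm {p Q : ℕ} (hp5 : 5 ≤ p) (hQ : 2 ≤ Q) (hdvd : Q ∣ 3 * p - 1) (hd : p ∣ Q - 1 ∨ p ∣ Q + 1) :
    Q = 3 * p - 1 := by
  obtain ⟨j, hj⟩ := hdvd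
  have hj1 : 1 ≤ j := Nat.pos_of_ne_zero fun e => by rw [e, mul_zero] at hj; omega
  rcases hd with ⟨i, hi⟩ | ⟨i, hi⟩
  · exfalso
    have hi1 : 1 ≤ i := Nat.pos_of_ne_zero fun e => by rw [e, mul_zero] at hi; omega
    rcases Nat.lt_or_ge i 3 with hi3 | hi3
    · rcases Nat.lt_or_ge j 3 with hj3 | hj3
      · interval_cases i <;> interval_cases j <;> omega
      · have : Q * 3 ≤ Q * j := Nat.mul_le_mul_left Q hj3
        have : p * 1 ≤ p * i := Nat.mul_le_mul_left p hi1
        omega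
    · have : Q * 1 ≤ Q * j := Nat.mul_le_mul_left Q hj1
      have : p * 3 ≤ p * i := Nat.mul_le_mul_left p hi3
      omega
  · have hi1 : 1 ≤ i := Nat.pos_of_ne_zero fun e => by rw [e, mul_zero] at hi; omega
    rcases Nat.lt_or_ge i 4 with hi4 | hi4
    · rcases Nat.lt_or_ge j 4 with hj4 | hj4
      · interval_cases i <;> interval_cases j <;> omega
      · have : Q * 4 ≤ Q * j := Nat.mul_le_mul_left Q hj4
        have : p * 1 ≤ p * i := Nat.mul_le_mul_left p hi1
        omega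
    · have : Q * 1 ≤ Q * j := Nat.mul_le_mul_left Q hj1
      have : p * 4 ≤ p * i := Nat.mul_le_mul_left p hi4
      omega

/-- The order of `PSU(3, q)`, up to its denominator. -/
theorem card_psu_three_mul {F : Type} [Field F] [Fintype F] {q : ℕ} (hF : Fintype.card F = q ^ 2) :
    ∃ z : ℕ, z ∣ q + 1 ∧ Nat.card (Cfsg.PSU 3 F q) * z = q ^ 3 * ((q ^ 2 - 1) * (q ^ 3 + 1)) := by
  refine ⟨Nat.card (Subgroup.center (Cfsg.SU 3 F q)), ?_, ?_⟩
  · rw [card_center_SU hF 3 le_rfl]
    exact Nat.gcd_dvd_right _ _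
  · have hsu := card_SU hF 3 (by norm_num)
    simp only [Finset.prod_range_succ, Finset.prod_range_zero, one_mul] at hsu
    norm_num [-Nat.card_eq_fintype_card] at hsu
    rw [← Subgroup.card_eq_card_quotient_mul_card_subgroup]
    refine Nat.eq_of_mul_eq_mul_left (Nat.add_pos_right q one_pos) ?_
    rw [hsu]; ring

variable {G : Type u} {Ω : Type*} [Group G] [Finite G] [IsSimpleGroup G] [MulAction G Ω] [Finite Ω]
  {p : ℕ} [Fact p.Prime] {P : Sylow p G}

namespace Hyp

variable (h : Hyp G Ω p P)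
include h

/-- A point stabiliser is strongly embedded when every involution fixes one point. -/
theorem stronglyEmbedded_stabilizer (hφ : ∀ t : G, orderOf t = 2 → Nat.card (fixedBy Ω t) = 1) (a : Ω) :
    Cfsg.IsStronglyEmbedded (stabilizer G a) := by
  have hp5 := h.five
  haveI := h.trans
  refine ⟨fun e => ?_, ?_, fun g hg => ?_⟩
  · have h1 := index_stabilizer_of_transitive G a
    rw [e, index_top, h.card] at h1
    omega
  · rw [even_iff_two_dvd]
    have h2 := h.even_card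
    rw [← h.card_index a] at h2
    rcases Nat.prime_two.dvd_mul.1 h2 with d | d
    · have := Nat.odd_iff.1 (h.prime.odd_of_ne_two (by omega))
      omega
    · exact d
  · rw [← Nat.not_even_iff_odd, even_iff_two_dvd]
    intro h2
    haveI := Fact.mk Nat.prime_two
    obtain ⟨⟨t, ht⟩, hto⟩ := exists_prime_orderOf_dvd_card'
      (G := ↥(stabilizer G a ⊓ (stabilizer G a).map (MulAut.conj g).toMonoidHom)) 2 h2
    rw [Subgroup.orderOf_mk] at hto
    obtain ⟨hta, s, hs, hst⟩ := Subgroup.mem_inf.1 ht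
    have hga : t • (g • a) = g • a := by
      rw [← hst]
      show (g * s * g⁻¹) • g • a = g • a
      rw [mul_smul, mul_smul, inv_smul_smul, mem_stabilizer_iff.1 hs]
    obtain ⟨hsub, -⟩ := Nat.card_eq_one_iff_unique.1 (hφ t hto)
    exact hg (congrArg Subtype.val
      (hsub.elim (⟨g • a, hga⟩ : fixedBy Ω t) ⟨a, mem_stabilizer_iff.1 hta⟩))

/-- In degree `3 p - 1` with one fixed point there is no group. -/
theorem false_of_one_fixed (hB : BenderStmt.{u}) (hφ : ∀ t : G, orderOf t = 2 → Nat.card (fixedBy Ω t) = 1)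
    {t : G} (ht : orderOf t = 2)
    (heq : p * Nat.card (centralizer ({t} : Set G)) ^ 2 * (3 * p - 2) = Nat.card G * (3 * p - 1)) : False := by
  have hp5 := h.five
  have hpp := h.prime
  haveI := h.trans
  have hpodd : p % 2 = 1 := Nat.odd_iff.1 (hpp.odd_of_ne_two (by omega))
  set C := Nat.card (centralizer ({t} : Set G)) with hC
  have hC0 : C ≠ 0 := Nat.card_pos.ne'
  -- the two-part of the order divides `3 p - 1`
  have hpow : ∀ k, 2 ^ k ∣ Nat.card G → 2 ^ k ∣ 3 * p - 1 := by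
    intro k hk
    have h1 := congrArg v2 heq
    rw [v2_mul (mul_ne_zero hpp.ne_zero (pow_ne_zero 2 hC0)) (by omega),
      v2_mul hpp.ne_zero (pow_ne_zero 2 hC0), v2_pow, v2_of_odd hpodd, hC, h.v2_centralizer ht,
      v2_of_odd (show (3 * p - 2) % 2 = 1 by omega), v2_mul Nat.card_pos.ne' (by omega)] at h1
    have h2 : k ≤ v2 (3 * p - 1) := (le_v2 Nat.card_pos.ne' hk).trans (by omega)
    exact (pow_dvd_pow 2 h2).trans (two_pow_v2_dvd _)
  have hna : ∃ a b : G, a * b ≠ b * a := by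
    by_contra hc
    push Not at hc
    exact h.na ⟨⟨hc⟩⟩
  have hne : ∀ {q k : ℕ}, q = 2 ^ k → ¬ p ∣ q := fun {q k} hq hd => by
    have := (Nat.prime_dvd_prime_iff_eq hpp Nat.prime_two).1 (hpp.dvd_of_dvd_pow (hq ▸ hd))
    omega
  obtain ⟨a⟩ : Nonempty Ω := (Nat.card_pos_iff.1 (by rw [h.card]; omega)).1
  rcases hB G hna _ (h.stronglyEmbedded_stabilizer hφ a) with
    ⟨F, _, _, hF2, hq4, ⟨e⟩⟩ | ⟨-, m, hm, hG⟩ | ⟨F, _, _, q, hF, hqe, hq4, ⟨e⟩⟩
  · -- `PSL(2, q)`
    obtain ⟨k, -, hk⟩ := FiniteField.card F 2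
    set q := Fintype.card F with hq
    have hG := CfsgLib.Classical.Dickson.gcd_mul_card_psl (F := F) rfl
    have hqe : 2 ∣ q := hk ▸ dvd_pow_self 2 k.ne_zero
    rw [← hq, ← Nat.card_congr e.toEquiv, Nat.Coprime.gcd_eq_one (Nat.prime_two.coprime_iff_not_dvd.2 (show ¬ 2 ∣ q - 1 by omega)), one_mul] at hG
    have hdq : q ∣ 3 * p - 1 := by
      rw [hk]
      exact hpow _ (by rw [hG, ← hk]; exact dvd_mul_right q _)
    have hpd : p ∣ q ^ 2 - 1 := by
      rcases hpp.dvd_mul.1 (hG ▸ h.dvd_card) with d | d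
      · exact absurd d (hne hk)
      · exact d
    rw [show q ^ 2 - 1 = (q + 1) * (q - 1) by rw [← Nat.sq_sub_sq, one_pow]] at hpd
    have hqp := eq_of_dvd_pm hp5 (by omega) hdq (hpp.dvd_mul.1 hpd).symm
    have h3 : 3 * p - 2 = q - 1 := by omega
    rw [hG, h3, show 3 * p - 1 = q by omega, show q ^ 2 - 1 = (q + 1) * (q - 1) by
      rw [← Nat.sq_sub_sq, one_pow], show q + 1 = 3 * p by omega] at heq
    have h4 : C ^ 2 = 3 * q ^ 2 := by
      refine Nat.eq_of_mul_eq_mul_left hpp.pos (Nat.eq_of_mul_eq_mul_right (show 0 < q - 1 by omega) ?_)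
      rw [heq]; ring
    obtain ⟨c, hc⟩ := Nat.prime_three.dvd_of_dvd_pow (show 3 ∣ C ^ 2 from h4 ▸ dvd_mul_right 3 _)
    rw [hc] at h4
    have h5 : 3 ∣ q ^ 2 := ⟨c ^ 2, by linarith [h4, show (3 * c) ^ 2 = 9 * c ^ 2 by ring]⟩
    have := Nat.prime_three.dvd_of_dvd_pow h5
    omega
  · -- Suzuki groups
    set q := 2 ^ (2 * m + 1) with hq
    have hq8 : 8 ≤ q := by
      calc 8 = 2 ^ 3 := rfl
        _ ≤ q := Nat.pow_le_pow_right two_pos (by omega)
    have hQ : q ^ 2 ∣ 3 * p - 1 := by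
      rw [hq, ← pow_mul]
      exact hpow _ (by rw [hG, pow_mul, mul_assoc]; exact dvd_mul_right _ _)
    rcases hpp.dvd_mul.1 (hG ▸ h.dvd_card) with d | d
    · rcases hpp.dvd_mul.1 d with d | d
      · exact hne hq (hpp.dvd_of_dvd_pow d)
      · have h1 := eq_of_dvd_pm hp5 (by nlinarith) hQ (Or.inr d)
        have h2 : ¬ 3 ∣ q := fun e' => by
          have := (Nat.prime_dvd_prime_iff_eq Nat.prime_three Nat.prime_two).1
            (Nat.prime_three.dvd_of_dvd_pow e')
          omega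
        have h3 : q ^ 2 % 3 = 1 := by
          rw [Nat.pow_mod]
          have := Nat.mod_lt q (show 3 > 0 by norm_num)
          interval_cases hqm : q % 3
          · omega
          · norm_num
          · norm_num
        omega
    · have h1 := Nat.le_of_dvd (by omega) d
      have h2 := Nat.le_of_dvd (by omega) hQ
      have h3 : 8 * q ≤ q ^ 2 := by nlinarith
      omega
  · -- `PSU(3, q)`
    obtain ⟨r, hr⟩ := CharP.exists F
    obtain ⟨k', hrp, hk⟩ := FiniteField.card F r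
    have hqd : q ∣ r ^ (k' : ℕ) := ⟨q, by rw [← hk, hF, pow_two]⟩
    obtain ⟨k, -, hqk⟩ := (Nat.dvd_prime_pow hrp).1 hqd
    have hr2 : r = 2 := by
      refine ((Nat.prime_dvd_prime_iff_eq Nat.prime_two hrp).1 (Nat.prime_two.dvd_of_dvd_pow (n := k) ?_)).symm
      exact hqk ▸ even_iff_two_dvd.1 hqe
    rw [hr2] at hqk
    obtain ⟨z, hz, hcard⟩ := card_psu_three_mul hF
    rw [← Nat.card_congr e.toEquiv] at hcard
    have hcop : Nat.Coprime (q ^ 3) z := by
      refine (Nat.Coprime.coprime_dvd_right hz ?_).pow_left 3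
      rw [Nat.coprime_self_add_right]
      exact Nat.coprime_one_right q
    have hq3 : q ^ 3 ∣ Nat.card G := hcop.dvd_of_dvd_mul_right (hcard ▸ dvd_mul_right _ _)
    have hQ : q ^ 3 ∣ 3 * p - 1 := by
      rw [hqk, ← pow_mul] at hq3 ⊢
      exact hpow _ hq3
    have hle : p ≤ q ^ 2 - q + 1 := by
      have hd : p ∣ q ^ 3 * ((q ^ 2 - 1) * (q ^ 3 + 1)) := hcard ▸ dvd_mul_of_dvd_left h.dvd_card z
      obtain ⟨j, rfl⟩ : ∃ j, q = j + 1 := ⟨q - 1, by omega⟩
      rw [show (j + 1) ^ 2 - 1 = j * (j + 2) by rw [show (j + 1) ^ 2 = j * (j + 2) + 1 by ring]; omega,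
        show (j + 1) ^ 3 + 1 = (j + 2) * (j ^ 2 + j + 1) by ring] at hd
      have e1 : (j + 1) ^ 2 - (j + 1) + 1 = j ^ 2 + j + 1 := by
        rw [show (j + 1) ^ 2 = j ^ 2 + j + (j + 1) by ring]; omega
      rw [e1]
      rcases hpp.dvd_mul.1 hd with d | d
      · exact absurd (hpp.dvd_of_dvd_pow d) (hne hqk)
      rcases hpp.dvd_mul.1 d with d | d
      · rcases hpp.dvd_mul.1 d with d | d <;> have := Nat.le_of_dvd (by omega) d <;> nlinarith
      · rcases hpp.dvd_mul.1 d with d | d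
        · have := Nat.le_of_dvd (by omega) d; nlinarith
        · exact Nat.le_of_dvd (by nlinarith) d
    have h1 := Nat.le_of_dvd (by omega) hQ
    have h2 : 4 * q ^ 2 ≤ q ^ 3 := by nlinarith
    have h3 : q ≤ q ^ 2 := by nlinarith
    omega

end Hyp

end CfsgLib.DegreeThreeP
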