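import Cfsg.Agent.Lib.DegreeThreeP.Basic
import Cfsg.Agent.Lib.Perm.CentralizerRing

/-!
# The principal block and the permutation character (S3254)

Owner: helper5.

* `Hyp.block_cases`: a character of degree `p - 1`, or `π = 1 + χ + η` with `χ 1 = 2 p - 1`, or `π = 1 + χ` with
  `χ 1 = 3 p - 1`; in the last two cases `Good` records the values and the counting equation.
-/

set_option autoImplicit false
set_option linter.unusedSectionVars false

namespace CfsgLib.DegreeThreeP

open Subgroup MulAction CfsgLib.Perm CfsgLib.Char Cfsg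
open scoped _root_.Classical ComplexConjugate

variable {G Ω : Type*} [Group G] [Fintype G] [IsSimpleGroup G] [MulAction G Ω] [Finite Ω]
  {p : ℕ} [Fact p.Prime] {P : Sylow p G}

/-- The nonexceptional character of degree `f ≡ -1 mod p`. -/
structure Good (P : Sylow p G) (χ : IrrCharacter G) (f : ℕ) : Prop where
  deg : (χ : G → ℂ) 1 = (f : ℂ)
  star : ∀ x ∈ FewSylow.star (P : Subgroup G), (χ : G → ℂ) x = -1
  int : ∀ g : G, ∃ k : ℤ, (χ : G → ℂ) g = k
  exc : ∃ θ : IrrCharacter G, (θ : G → ℂ) 1 = (f : ℂ) - 1 ∧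
    ∀ g : G, ¬ p ∣ orderOf g → (θ : G → ℂ) g = (χ : G → ℂ) g - 1
  count : ∀ u : G, orderOf u = 2 → ∀ v : ℤ, (χ : G → ℂ) u = v →
    (p : ℤ) * (Nat.card (centralizer ({u} : Set G)) : ℤ) ^ 2 * ((f : ℤ) * ((f : ℤ) - 1)) =
      (Nat.card G : ℤ) * ((f : ℤ) - v) ^ 2

namespace Hyp

variable (h : Hyp G Ω p P)
include h

/-- The value of a character at an involution has the parity of the degree. -/
theorem even_deg_add {ψ : IrrCharacter G} {u : G} (hu : orderOf u = 2) {f : ℕ} {v : ℤ}
    (hf : (ψ : G → ℂ) 1 = (f : ℂ)) (hv : (ψ : G → ℂ) u = v) : (2 : ℤ) ∣ (f : ℤ) + v := by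
  obtain ⟨d, hd⟩ := CharAverage.exists_sum_eq (zpowers u) (IsIrr.isCharacter ψ.2)
  have hstar : FewSylow.star (zpowers u) = {u} := by
    ext x
    rw [FewSylow.mem_star, Finset.mem_singleton]
    refine ⟨fun ⟨h1, h2⟩ => ?_, fun e => by
      subst e
      exact ⟨fun e' => by rw [e', orderOf_one] at hu; omega, mem_zpowers _⟩⟩
    obtain ⟨k, rfl⟩ := mem_zpowers_iff.1 h2
    rcases Int.even_or_odd k with ⟨m, rfl⟩ | ⟨m, rfl⟩
    · refine absurd ?_ h1
      rw [← two_mul, zpow_mul, zpow_two, ← pow_two, ← hu, pow_orderOf_eq_one, one_zpow]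
    · rw [zpow_add, zpow_one, zpow_mul, zpow_two, ← pow_two, ← hu, pow_orderOf_eq_one, one_zpow, one_mul]
  rw [FewSylow.sum_subgroup, hstar, Finset.sum_singleton, hf, hv,
    show Nat.card (zpowers u) = 2 by rw [Nat.card_zpowers, hu]] at hd
  exact ⟨d, by exact_mod_cast hd⟩

variable {a : G} {t n : ℕ}

/-- The bound for the value at an involution. -/
theorem norm_value_le (F : FewSylow.Frame P a 2 t n) {ψ : IrrCharacter G} {u : G} (hu : orderOf u = 2)
    {f : ℕ} {v c : ℤ} (hf : (ψ : G → ℂ) 1 = (f : ℂ)) (hv : (ψ : G → ℂ) u = v)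
    (hs : ∀ x ∈ FewSylow.star (P : Subgroup G), (ψ : G → ℂ) x = c) :
    (p : ℤ) * |v| ≤ f + ((p : ℤ) - 1) * c := by
  have hva : (ψ : G → ℂ) a = v := by
    obtain ⟨g, hg⟩ := isConj_iff.1 (h.isConj_involution hu F.ord)
    rw [← hg, IsIrr.isClassFunction ψ.2, hv]
  have ha1 : a ≠ 1 := fun e => by have h' := F.ord; rw [e, orderOf_one] at h'; omega
  have hle := CharAverage.norm_sum_le (P : Subgroup G) (IsIrr.isCharacter ψ.2) F.mem
  rw [F.sum_coset (fun g k => IsIrr.isClassFunction ψ.2 g k) (mem_zpowers a) ha1, FewSylow.sum_subgroup, hf,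
    Finset.sum_congr rfl hs, Finset.sum_const, F.card_Pstar, hva, norm_mul, Complex.norm_natCast,
    Complex.norm_intCast] at hle
  simp only [Complex.add_re, Complex.natCast_re, nsmul_eq_mul, Complex.mul_re, Complex.intCast_re,
    Complex.natCast_im, Complex.intCast_im, mul_zero, sub_zero] at hle
  have het : ((2 * t : ℕ) : ℤ) = (p : ℤ) - 1 := by have := F.et; omega
  have hR : (((p : ℤ) * |v| : ℤ) : ℝ) ≤ (((f : ℤ) + ((2 * t : ℕ) : ℤ) * c : ℤ) : ℝ) := by
    push_cast
    push_cast at hle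
    exact hle
  rw [het] at hR
  exact_mod_cast hR

set_option maxHeartbeats 1600000 in
/-- The possible decompositions of the permutation character. -/
theorem block_cases :
    ∃ χ : IrrCharacter G, χ ≠ trivChar G ∧
    ((charDegree (χ : G → ℂ) = p - 1 ∧ ∀ x ∈ FewSylow.star (P : Subgroup G), (χ : G → ℂ) x ≠ 0) ∨
     (Good P χ (2 * p - 1) ∧ ∃ η : IrrCharacter G, η ≠ trivChar G ∧ η ≠ χ ∧ (η : G → ℂ) 1 = (p : ℂ) ∧
        (∀ x ∈ FewSylow.star (P : Subgroup G), (η : G → ℂ) x = 0) ∧
        ∀ g : G, (Nat.card (fixedBy Ω g) : ℂ) = 1 + (χ : G → ℂ) g + (η : G → ℂ) g) ∨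
     (Good P χ (3 * p - 1) ∧ ∀ g : G, (Nat.card (fixedBy Ω g) : ℂ) = 1 + (χ : G → ℂ) g)) := by
  haveI := Fintype.ofFinite (IrrCharacter G)
  haveI := h.trans
  haveI := Fintype.ofFinite Ω
  have hp5 := h.five
  have hpp := h.prime
  haveI : Nonempty Ω := (Nat.card_pos_iff.1 (by rw [h.card]; omega)).1
  obtain ⟨a, t, n, F⟩ := h.exists_frame_two
  have het := F.et
  obtain ⟨X, Y, εX, ε, hdisj, hTX, hT1, hXc, hYc, hX, hε, hYdeg, hYagree, hrel, hYsum, hK0, -⟩ :=
    FewSylow.exists_values F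
  obtain ⟨χ, hχ⟩ : ∃ χ, X.erase (trivChar G) = {χ} :=
    Finset.card_eq_one.1 (by rw [Finset.card_erase_of_mem hTX, hXc])
  have hχX : χ ∈ X := Finset.mem_of_mem_erase (hχ ▸ Finset.mem_singleton_self χ)
  have hχT : χ ≠ trivChar G := Finset.ne_of_mem_erase (hχ ▸ Finset.mem_singleton_self χ)
  have hXeq : X = {trivChar G, χ} := by
    rw [← Finset.insert_erase hTX, hχ]
  refine ⟨χ, hχT, ?_⟩
  obtain ⟨hsgn, hmod, hval⟩ := hX χ hχX
  obtain ⟨θ₀, hθ₀⟩ : Y.Nonempty := Finset.card_pos.1 (by omega)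
  set f := charDegree (χ : G → ℂ) with hfdef
  set D := charDegree (θ₀ : G → ℂ) with hDdef
  set c := εX χ with hcdef
  have hone : ∀ η : IrrCharacter G, (η : G → ℂ) 1 = (charDegree (η : G → ℂ) : ℂ) :=
    fun η => (CfsgLib.CharDegree.cast_irrDegree η).symm
  have h1p : ¬ p ∣ orderOf (1 : G) := by rw [orderOf_one]; exact hpp.not_dvd_one
  have hYD : ∀ θ ∈ Y, (θ : G → ℂ) 1 = (D : ℂ) := fun θ hθ => by
    rw [hYagree θ hθ θ₀ hθ₀ 1 h1p, hone]
  have hrelg : ∀ θ ∈ Y, ∀ g : G, ¬ p ∣ orderOf g →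
      (ε : ℂ) * (θ : G → ℂ) g = 1 + (c : ℂ) * (χ : G → ℂ) g := fun θ hθ g hg => by
    rw [hrel θ hθ g hg, hXeq, Finset.sum_pair hχT.symm, hT1, trivChar_apply, Int.cast_one, one_mul]
  have hrel1 : (ε : ℤ) * D = 1 + c * f := by
    have h' := hrelg θ₀ hθ₀ 1 h1p
    rw [hone, hone] at h'
    exact_mod_cast h'
  have hd1 : f ≠ 1 := fun e => hχT (FewSylow.eq_trivChar F.perf χ e)
  have hd0 : 0 < f := CfsgLib.CharDegree.charDegree_pos χ
  have hD0 : 0 < D := CfsgLib.CharDegree.charDegree_pos θ₀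
  -- the nonexceptional character is rational
  have hint : ∀ g : G, ∃ k : ℤ, (χ : G → ℂ) g = k := by
    refine fun g => RationalValue.exists_eq_int (IsIrr.isCharacter χ.2) g fun m hm => ?_
    set η : IrrCharacter G := ⟨_, isIrrCharacter_pow χ.2 hm⟩
    have hηd : charDegree (η : G → ℂ) = f := by
      refine CfsgLib.CharDegree.charDegree_eq_of_apply_one ?_
      show (χ : G → ℂ) ((1 : G) ^ m) = _
      rw [one_pow, hone]
    obtain ⟨x₀, hx₀⟩ : (FewSylow.star (P : Subgroup G)).Nonempty :=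
      Finset.card_pos.1 (by rw [F.card_Pstar]; omega)
    have hηx : (η : G → ℂ) x₀ ≠ 0 := by
      obtain ⟨hx1, hxP⟩ := FewSylow.mem_star.1 hx₀
      show (χ : G → ℂ) (x₀ ^ m) ≠ 0
      rw [hval (x₀ ^ m) (FewSylow.mem_star.2 ⟨fun e => hx1 ?_, pow_mem hxP m⟩)]
      · rcases hsgn with e | e <;> rw [e] <;> norm_num
      · exact orderOf_eq_one_iff.1
          (Nat.eq_one_of_dvd_coprimes hm (orderOf_dvd_of_pow_eq_one e) (orderOf_dvd_natCard x₀))
    have hηX : η ∈ X := by
      by_contra hno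
      by_cases hY : η ∈ Y
      · have h2 := (hYdeg η hY).symm.trans (hηd ▸ hmod)
        rw [Int.modEq_iff_dvd] at h2
        have hb := Int.eq_zero_of_abs_lt_dvd h2 (by
          rcases hsgn with e | e <;> rcases hε with e' | e' <;> rw [e, e'] <;> simp <;> omega)
        rcases hsgn with e | e <;> rcases hε with e' | e' <;> rw [e, e'] at hb <;> norm_num at hb
      · exact hηx (hK0 η (by simp [hno, hY]) x₀ hx₀)
    rw [hXeq, Finset.mem_insert, Finset.mem_singleton] at hηX
    refine congrArg (fun ψ : IrrCharacter G => (ψ : G → ℂ) g) (hηX.resolve_left fun e => hd1 ?_)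
    rw [← hηd, e]
    exact CfsgLib.CharDegree.charDegree_eq_of_apply_one (by simp [trivChar_apply])
  have hsplit : ∀ φ : IrrCharacter G → ℂ,
      ∑ η, φ η = φ (trivChar G) + φ χ + ∑ η ∈ Y, φ η + ∑ η ∈ Finset.univ \ (X ∪ Y), φ η := fun φ => by
    rw [← Finset.sum_sdiff (Finset.subset_univ (X ∪ Y)), Finset.sum_union hdisj, hXeq,
      Finset.sum_pair hχT.symm]
    ring
  -- the counting equation
  have haP : a ∉ (P : Subgroup G) := fun e => by
    have h1 := F.eq_one_of_mem e (mem_zpowers a)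
    have h2 := F.ord
    rw [h1, orderOf_one] at h2
    omega
  have hself : CfsgLib.CA.SelfCent (P : Subgroup G) := fun x hx hx1 => by
    rw [centralizer_eq_of_prime_card hpp h.card_P hx hx1, h.centralizer_P]
  have hind : (P : Subgroup G).relIndex (normalizer ((P : Subgroup G) : Set G)) = 2 := by
    have h' := SelfCentDegree.card_subgroupOf_normalizer (P : Subgroup G)
    rw [h.norm, h.card_P] at h'
    exact (Nat.eq_of_mul_eq_mul_right hpp.pos h').symm
  obtain ⟨w, hw⟩ : (FewSylow.star (P : Subgroup G)).Nonempty :=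
    Finset.card_pos.1 (by rw [F.card_Pstar]; omega)
  obtain ⟨hw1, hwP⟩ := FewSylow.mem_star.1 hw
  have hYw : ∑ θ ∈ Y, (θ : G → ℂ) w = -(ε : ℂ) := by
    have h' := sum_degree_mul_apply_of_ne_one hw1
    rw [hsplit, trivChar_apply, trivChar_apply, hval w hw, hone χ,
      Finset.sum_congr rfl (s₁ := Y) (g := fun θ => (D : ℂ) * (θ : G → ℂ) w) (fun θ hθ => by rw [hYD θ hθ]),
      Finset.sum_eq_zero (s := Finset.univ \ (X ∪ Y)) (fun η hη => by
        rw [hK0 η (Finset.mem_sdiff.1 hη).2 w hw, mul_zero]), ← Finset.mul_sum] at h'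
    have h2 : (ε : ℂ) * D = 1 + (c : ℂ) * f := by exact_mod_cast hrel1
    refine mul_left_cancel₀ (Nat.cast_ne_zero.2 hD0.ne' : (D : ℂ) ≠ 0) ?_
    linear_combination h' + h2
  have hcount : ∀ u : G, orderOf u = 2 → ∀ v : ℤ, (χ : G → ℂ) u = v →
      (p : ℤ) * (Nat.card (centralizer ({u} : Set G)) : ℤ) ^ 2 * ((c * f) * (c * f + 1)) =
        (Nat.card G : ℤ) * (c * f - c * v) ^ 2 := by
    intro u hu v hv
    obtain ⟨g, hg⟩ := isConj_iff.1 (h.isConj_involution F.ord hu)
    have hC : Nat.card (centralizer ({u} : Set G)) = Nat.card (centralizer ({a} : Set G)) :=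
      CfsgLib.DegreeThreeP.card_centralizer_of_isConj (isConj_iff.2 ⟨g, hg⟩).symm
    have hav : (χ : G → ℂ) a = v := by
      rw [← hv, ← hg, IsIrr.isClassFunction χ.2]
    have har : ¬ p ∣ orderOf a := by
      rw [F.ord]; exact fun e => by have := Nat.le_of_dvd two_pos e; omega
    have hcnt := CfsgLib.CharDegree.sum_three (G := G) a a w
    rw [SelfCentDegree.card_solutions hself hind F.mem haP hwP hw1, h.card_P, hsplit,
      trivChar_apply, trivChar_apply, trivChar_apply, hav, hval w hw, hone χ,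
      Finset.sum_congr rfl (s₁ := Y)
        (g := fun θ => ((θ₀ : G → ℂ) a * (θ₀ : G → ℂ) a / (D : ℂ)) * (θ : G → ℂ) w)
        (fun θ hθ => by rw [hYD θ hθ, hYagree θ hθ θ₀ hθ₀ a har]; ring),
      ← Finset.mul_sum, hYw,
      Finset.sum_eq_zero (s := Finset.univ \ (X ∪ Y)) (fun η hη => by
        rw [hK0 η (Finset.mem_sdiff.1 hη).2 w hw, mul_zero, zero_div])] at hcnt
    have hcC : (c : ℂ) = 1 ∨ (c : ℂ) = -1 := by
      rcases hsgn with e | e
      · left; rw [e]; norm_num
      · right; rw [e]; norm_num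
    have htC : (-(ε : ℂ)) = 1 ∨ (-(ε : ℂ)) = -1 := by
      rcases hε with e | e
      · right; rw [e]; norm_num
      · left; rw [e]; norm_num
    have hεε : (ε : ℂ) * ε = 1 := by rcases hε with e | e <;> rw [e] <;> norm_num
    have e1 : (ε : ℂ) * D = 1 + (c : ℂ) * f := by exact_mod_cast hrel1
    have e2 : (ε : ℂ) * (θ₀ : G → ℂ) a = 1 + (c : ℂ) * v := by rw [hrelg θ₀ hθ₀ a har, hav]
    have key := SelfCentDegree.count_identity hcC htC (Nat.cast_ne_zero.2 hd0.ne' : (f : ℂ) ≠ 0)
      (Nat.cast_ne_zero.2 hD0.ne' : (D : ℂ) ≠ 0) (w := (θ₀ : G → ℂ) a) (v := (v : ℂ))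
      (by linear_combination -e1) (by linear_combination -e2)
      (N := (Nat.card G : ℂ))
      (M := ((p * Nat.card (centralizer ({a} : Set G)) ^ 2 : ℕ) : ℂ))
      (by rw [← hcnt]; ring)
    rw [hC]
    push_cast at key
    exact_mod_cast key
  -- the permutation character
  obtain ⟨m, hm, hm1, -⟩ := CentralizerRing.exists_perm_decomp (G := G) (Ω := Ω)
  set S := ∑ θ ∈ Y, m θ with hS
  set R := ∑ η ∈ Finset.univ \ (X ∪ Y), m η * charDegree (η : G → ℂ) with hR
  have hπ : ∀ g : G, ∑ η : IrrCharacter G, (m η : ℂ) * (η : G → ℂ) g = (Nat.card (fixedBy Ω g) : ℂ) :=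
    fun g => by
      have h' := congrFun hm g
      simp only [Finset.sum_apply, Pi.smul_apply, smul_eq_mul] at h'
      exact h'.symm
  have hf1 : 3 * p = 1 + m χ * f + S * D + R := by
    have h' := hπ 1
    rw [hsplit, hm1, trivChar_apply,
      Finset.sum_congr rfl (s₁ := Y) (g := fun θ => ((m θ * D : ℕ) : ℂ)) (fun θ hθ => by
        rw [hYD θ hθ]; push_cast; ring),
      Finset.sum_congr rfl (s₁ := Finset.univ \ (X ∪ Y))
        (g := fun η => ((m η * charDegree (η : G → ℂ) : ℕ) : ℂ)) (fun η _ => by rw [hone]; push_cast; ring),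
      ← Nat.cast_sum, ← Nat.cast_sum, ← Finset.sum_mul, hone χ] at h'
    have hfix1 : Nat.card (fixedBy Ω (1 : G)) = 3 * p := by
      rw [← h.card]; exact Nat.card_congr ((Equiv.setCongr (by ext x; simp)).trans (Equiv.Set.univ Ω))
    rw [hfix1] at h'
    simp only [Nat.cast_one, one_mul] at h'
    exact_mod_cast h'.symm
  have hfP : ((p : ℤ) - 1) * (1 + c * m χ) = 2 * (ε : ℤ) * S := by
    have h' : ∑ x ∈ FewSylow.star (P : Subgroup G), (Nat.card (fixedBy Ω x) : ℂ) = 0 := by
      refine Finset.sum_eq_zero fun x hx => ?_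
      obtain ⟨hx1, hxP⟩ := FewSylow.mem_star.1 hx
      have hxo : orderOf x = p := ((Nat.dvd_prime hpp).1 (h.card_P ▸
        Subgroup.orderOf_dvd_natCard _ hxP)).resolve_left fun e => hx1 (orderOf_eq_one_iff.1 e)
      rw [Nat.cast_eq_zero, Nat.card_eq_zero]
      exact Or.inl ⟨fun ⟨y, hy⟩ => h.smul_ne hxo y hy⟩
    simp only [← hπ] at h'
    rw [Finset.sum_comm, hsplit, hm1] at h'
    simp only [trivChar_apply, ← Finset.mul_sum] at h'
    rw [Finset.sum_congr rfl (s₁ := FewSylow.star (P : Subgroup G)) hval, Finset.sum_const, Finset.sum_const,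
      F.card_Pstar,
      Finset.sum_congr rfl (s₁ := Y) (g := fun θ => (m θ : ℂ) * -((ε : ℂ) * (2 : ℕ))) (fun θ hθ => by
        rw [hYsum θ hθ]),
      Finset.sum_eq_zero (s := Finset.univ \ (X ∪ Y)) (fun η hη => by
        rw [Finset.sum_eq_zero (hK0 η (Finset.mem_sdiff.1 hη).2), mul_zero]),
      ← Finset.sum_mul, ← Nat.cast_sum] at h'
    have h2t : (2 : ℂ) * t + 1 = p := by exact_mod_cast het
    have h2 : ((((p : ℤ) - 1) * (1 + c * m χ) : ℤ) : ℂ) = ((2 * (ε : ℤ) * S : ℤ) : ℂ) := by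
      simp only [nsmul_eq_mul, Nat.cast_one, one_mul] at h'
      simp only [S]
      push_cast at h' ⊢
      linear_combination h' - (1 + (c : ℂ) * m χ) * h2t
    exact_mod_cast h2
  have hRd : ∀ η ∈ Finset.univ \ (X ∪ Y), p ∣ charDegree (η : G → ℂ) := by
    intro η hη
    obtain ⟨d, hd⟩ := CharAverage.exists_sum_eq (P : Subgroup G) (IsIrr.isCharacter η.2)
    rw [FewSylow.sum_subgroup, h.card_P,
      Finset.sum_eq_zero (hK0 η (Finset.mem_sdiff.1 hη).2), add_zero, hone] at hd
    exact ⟨d, by exact_mod_cast hd⟩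
  have hRp : p ∣ R := Finset.dvd_sum fun η hη => (hRd η hη).mul_left _
  obtain ⟨r, hr⟩ := Int.modEq_iff_dvd.1 hmod
  obtain ⟨φ, hφ, hφu⟩ := h.fixed_involution
  rcases hsgn with hc | hc <;> rw [hc] at hr hrel1 hfP
  · -- the sign `+1`: only `p = 5`, `f = 6`, excluded by the two-part of the counting equation
    exfalso
    have hε1 : ε = 1 := hε.resolve_right fun e => by rw [e] at hrel1; omega
    rw [hε1] at hrel1 hfP
    have hfp : p + 1 ≤ f := by
      by_contra hlt
      have h0 := Int.eq_zero_of_abs_lt_dvd (Dvd.intro r hr.symm) (by rw [abs_lt]; omega)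
      omega
    have hSt : S = t * (1 + m χ) := by
      have : (2 : ℤ) * S = 2 * (t * (1 + m χ)) := by
        have h2t : (p : ℤ) - 1 = 2 * t := by omega
        rw [h2t] at hfP
        linarith
      exact_mod_cast mul_left_cancel₀ (two_ne_zero : (2 : ℤ) ≠ 0) this
    have hD : D = 1 + f := by omega
    have h5 : p = 5 := by nlinarith
    have ht2 : t = 2 := by omega
    have hm0 : m χ = 0 := by
      by_contra e
      have : 1 ≤ m χ := by omega
      rw [hSt, hD, ht2] at hf1
      nlinarith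
    rw [hm0, zero_mul, add_zero, hSt, hm0, hD, ht2, h5] at hf1
    have hf6 : f = 6 := by omega
    have hR0 : R = 0 := by omega
    obtain ⟨v, hv⟩ := hint a
    have hπa := hπ a
    rw [hsplit, hm1, hm0, hφu a F.ord,
      Finset.sum_congr rfl (s₁ := Y) (g := fun θ => (m θ : ℂ) * (1 + (v : ℂ))) (fun θ hθ => by
        congr 1
        have h' := hrelg θ hθ a (by rw [F.ord]; exact fun e => by have := Nat.le_of_dvd two_pos e; omega)
        rwa [hε1, hv, hc, Int.cast_one, one_mul, one_mul] at h'),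
      Finset.sum_eq_zero (s := Finset.univ \ (X ∪ Y)) (fun η hη => by
        rcases Nat.mul_eq_zero.1 (Finset.sum_eq_zero_iff.1 hR0 η hη) with h0 | h0
        · rw [h0]; simp
        · exact absurd h0 (CfsgLib.CharDegree.charDegree_pos η).ne'),
      ← Finset.sum_mul, ← Nat.cast_sum, ← hS, hSt, hm0, ht2] at hπa
    simp only [Nat.cast_one, trivChar_apply, one_mul, Nat.cast_zero, zero_mul, add_zero] at hπa
    have hv' : (φ : ℤ) = 3 + 2 * v := by
      have : ((φ : ℤ) : ℂ) = ((3 + 2 * v : ℤ) : ℂ) := by push_cast at hπa ⊢; linear_combination -hπa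
      exact_mod_cast this
    have hE := hcount a F.ord v hv
    rw [hc, hf6, h5] at hE
    have hn2 := h.two_le_v2
    have hvc := h.v2_centralizer F.ord
    have hC0 : Nat.card (centralizer ({a} : Set G)) ≠ 0 := Nat.card_pos.ne'
    have hG0 : Nat.card G ≠ 0 := Nat.card_pos.ne'
    rcases (show v = 0 ∨ v = -1 by omega) with rfl | rfl
    · have hN : 35 * Nat.card (centralizer ({a} : Set G)) ^ 2 = 6 * Nat.card G := by
        generalize Nat.card (centralizer ({a} : Set G)) = C at hE ⊢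
        generalize Nat.card G = N at hE ⊢
        norm_num at hE
        zify
        linarith
      have h2 := congrArg v2 hN
      rw [v2_mul (by norm_num) (pow_ne_zero _ hC0), v2_mul (by norm_num) hG0, v2_pow, hvc,
        v2_of_odd (show 35 % 2 = 1 by norm_num), show (6 : ℕ) = 2 * 3 by norm_num,
        v2_mul two_ne_zero three_ne_zero, v2_two, v2_of_odd (show 3 % 2 = 1 by norm_num)] at h2
      omega
    · have hN : 210 * Nat.card (centralizer ({a} : Set G)) ^ 2 = 49 * Nat.card G := by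
        generalize Nat.card (centralizer ({a} : Set G)) = C at hE ⊢
        generalize Nat.card G = N at hE ⊢
        norm_num at hE
        zify
        linarith
      have h2 := congrArg v2 hN
      rw [v2_mul (by norm_num) (pow_ne_zero _ hC0), v2_mul (by norm_num) hG0, v2_pow, hvc,
        v2_of_odd (show 49 % 2 = 1 by norm_num), show (210 : ℕ) = 2 * 105 by norm_num,
        v2_mul two_ne_zero (by norm_num), v2_two, v2_of_odd (show 105 % 2 = 1 by norm_num)] at h2
      omega
  · have hε1 : ε = -1 := hε.resolve_left fun e => by rw [e] at hrel1; omega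
    rw [hε1] at hrel1 hfP
    by_cases hfp : f = p - 1
    · refine Or.inl ⟨hfp, fun x hx => ?_⟩
      rw [hval x hx, hc]; norm_num
    have hfr : (f : ℤ) = -1 - p * r := by omega
    have hr2 : r ≤ -2 := by
      by_contra hlt
      rcases (show r = -1 ∨ 0 ≤ r by omega) with e | e
      · rw [e] at hfr; omega
      · have : (0 : ℤ) ≤ (p : ℤ) * r := mul_nonneg (Int.natCast_nonneg p) e
        omega
    have hf2 : 2 * p ≤ f + 1 := by nlinarith
    have hD : D + 1 = f := by omega
    have hSt : (S : ℤ) = t * ((m χ : ℤ) - 1) := by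
      have h2t : (p : ℤ) - 1 = 2 * t := by omega
      rw [h2t] at hfP
      linarith
    have hm : m χ = 1 := by
      have h1 : 1 ≤ m χ := by
        by_contra e
        have e0 : m χ = 0 := by omega
        rw [e0] at hSt
        push_cast at hSt
        omega
      by_contra e
      have : 2 * f ≤ m χ * f := Nat.mul_le_mul_right f (by omega)
      omega
    have hS0 : S = 0 := by rw [hm] at hSt; simpa using hSt
    rw [hm, hS0, one_mul, zero_mul, add_zero] at hf1
    have hgood : Good P χ f :=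
      ⟨hone χ, fun x hx => by rw [hval x hx, hc]; norm_num, hint,
        ⟨θ₀, by rw [hone θ₀, ← hD]; push_cast; ring, fun g hg => by
          have h' := hrelg θ₀ hθ₀ g hg
          rw [hε1, hc] at h'
          push_cast at h'
          linear_combination -h'⟩,
        fun u hu v hv => by
          have h' := hcount u hu v hv
          rw [hc] at h'
          linear_combination h'⟩
    have hπ' : ∀ g : G, (Nat.card (fixedBy Ω g) : ℂ) = 1 + (χ : G → ℂ) g +
        ∑ η ∈ Finset.univ \ (X ∪ Y), (m η : ℂ) * (η : G → ℂ) g := fun g => by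
      rw [← hπ g, hsplit, hm1, hm, trivChar_apply,
        Finset.sum_eq_zero (s := Y) (fun θ hθ => by rw [Finset.sum_eq_zero_iff.1 hS0 θ hθ]; simp)]
      simp
    obtain ⟨i, hi⟩ := hRp
    rcases (show r = -2 ∨ r ≤ -3 by omega) with hr' | hr'
    · subst hr'
      have hf : f = 2 * p - 1 := by omega
      have hR1 : R = p := by omega
      refine Or.inr (Or.inl ⟨hf ▸ hgood, ?_⟩)
      obtain ⟨η, hη, hηne⟩ := Finset.exists_ne_zero_of_sum_ne_zero (show R ≠ 0 by omega)
      have hle := Finset.single_le_sum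
        (f := fun η : IrrCharacter G => m η * charDegree (η : G → ℂ)) (fun _ _ => Nat.zero_le _) hη
      have hdge : p ≤ charDegree (η : G → ℂ) :=
        Nat.le_of_dvd (CfsgLib.CharDegree.charDegree_pos η) (hRd η hη)
      have hmη : m η = 1 := by
        have h0 : m η ≠ 0 := fun e => hηne (by rw [e, zero_mul])
        by_contra e
        have : 2 * p ≤ m η * charDegree (η : G → ℂ) := Nat.mul_le_mul (by omega) hdge
        omega
      have hdη : charDegree (η : G → ℂ) = p := by
        simp only [hmη, one_mul] at hle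
        omega
      have hηout := (Finset.mem_sdiff.1 hη).2
      refine ⟨η, fun e => hηout (Finset.mem_union_left _ (e ▸ hTX)),
        fun e => hηout (Finset.mem_union_left _ (e ▸ hχX)), by rw [hone, hdη], hK0 η hηout, fun g => ?_⟩
      rw [hπ' g, Finset.sum_eq_single η (fun ψ hψ hne => ?_) (fun e => absurd hη e), hmη, Nat.cast_one, one_mul]
      have h2 := Finset.add_sum_erase _ (fun η : IrrCharacter G => m η * charDegree (η : G → ℂ)) hη
      simp only [hmη, one_mul, hdη] at h2
      have h3 : ∑ x ∈ (Finset.univ \ (X ∪ Y)).erase η, m x * charDegree (x : G → ℂ) = 0 := by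
        change p + _ = R at h2
        omega
      rcases Nat.mul_eq_zero.1 (Finset.sum_eq_zero_iff.1 h3 ψ (Finset.mem_erase.2 ⟨hne, hψ⟩)) with e | e
      · rw [e]; simp
      · exact absurd e (CfsgLib.CharDegree.charDegree_pos ψ).ne'
    · have hf : f = 3 * p - 1 := by
        have : (p : ℤ) * r ≤ (p : ℤ) * (-3) := mul_le_mul_of_nonneg_left hr' (Int.natCast_nonneg p)
        omega
      have hR0 : R = 0 := by omega
      refine Or.inr (Or.inr ⟨hf ▸ hgood, fun g => ?_⟩)
      rw [hπ' g, Finset.sum_eq_zero (fun η hη => ?_), add_zero]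
      rcases Nat.mul_eq_zero.1 (Finset.sum_eq_zero_iff.1 hR0 η hη) with e | e
      · rw [e]; simp
      · exact absurd e (CfsgLib.CharDegree.charDegree_pos η).ne'

end Hyp

end CfsgLib.DegreeThreeP
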