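import Cfsg.Agent.Lib.DegreeThreeP.Basic
import Cfsg.Agent.S4706

/-!
# The imprimitive case (S3254)

Owner: helper5.

* `Hyp.imprimitive_case`: an imprimitive group permutes `p` blocks, so it is `PSL(2, 2^m)` with `p = 2^m + 1`.
-/

set_option autoImplicit false
set_option linter.unusedSectionVars false

namespace CfsgLib.DegreeThreeP

open Subgroup MulAction
open scoped Pointwise

variable {G Ω : Type*} [Group G] [Finite G] [IsSimpleGroup G] [MulAction G Ω] [Finite Ω]
  {p : ℕ} [Fact p.Prime] {P : Sylow p G}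

namespace Hyp

variable (h : Hyp G Ω p P)
include h

/-- A simple group with this Sylow normaliser permuting `p` things faithfully. -/
theorem psl_of_degree_p {α : Type*} [Fintype α] [DecidableEq α] (hα : Fintype.card α = p)
    (f : G →* Equiv.Perm α) (hf : Function.Injective f) :
    ∃ (F : Type) (_ : Field F) (_ : Fintype F) (m : ℕ), Fintype.card F = 2 ^ m ∧ p = 2 ^ m + 1 ∧
      Nonempty (G ≃* Matrix.ProjectiveSpecialLinearGroup (Fin 2) F) := by
  have hp5 := h.five
  let r : G →* f.range := f.rangeRestrict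
  have hr : Function.Bijective r :=
    ⟨fun x y hxy => hf (congrArg Subtype.val hxy), f.rangeRestrict_surjective⟩
  let e : G ≃* f.range := MulEquiv.ofBijective r hr
  let Q : Sylow p f.range := P.mapSurjective (f := r) hr.2
  have hQ : (Q : Subgroup f.range) = (P : Subgroup G).map r := rfl
  have hNQ : Nat.card (normalizer ((Q : Subgroup f.range) : Set f.range)) = 2 * p := by
    rw [hQ, ← map_normalizer_eq_of_bijective (P : Subgroup G) hr, card_map_of_injective hr.1, h.norm]
  rcases Cfsg.Agent.S4706.result (by omega) hα f.range Q hNQ with hn | ⟨m, F, _, _, hm, hF, ⟨φ⟩⟩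
  · exfalso
    have hn' : (P : Subgroup G).Normal := by
      have h1 := hn.comap r
      rwa [hQ, comap_map_eq_self_of_injective hr.1] at h1
    rcases hn'.eq_bot_or_eq_top with hb | ht
    · exact P.ne_bot_of_dvd_card h.dvd_card hb
    · have h1 := congrArg (fun H : Subgroup G => Nat.card H) ht
      simp only [card_top] at h1
      rw [h.card_P] at h1
      have h2 := h.even_card
      rw [← h1] at h2
      have := (Nat.prime_dvd_prime_iff_eq Nat.prime_two h.prime).1 h2
      omega
  · refine ⟨F, inferInstance, inferInstance, m, hF, hm, ?_⟩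
    let g := e.trans φ
    haveI := g.toEquiv.symm.nontrivial
    haveI : IsSimpleGroup (Matrix.SpecialLinearGroup (Fin 2) F) :=
      IsSimpleGroup.isSimpleGroup_of_surjective (g : G →* Matrix.SpecialLinearGroup (Fin 2) F) g.surjective
    rcases (inferInstance : (center (Matrix.SpecialLinearGroup (Fin 2) F)).Normal).eq_bot_or_eq_top with hb | ht
    · exact ⟨g.trans ((QuotientGroup.quotientBot (G := Matrix.SpecialLinearGroup (Fin 2) F)).symm.trans
        (QuotientGroup.quotientMulEquivOfEq hb.symm))⟩
    · refine absurd ⟨⟨fun a b => g.injective ?_⟩⟩ h.na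
      rw [map_mul, map_mul]
      exact (mem_center_iff.1 (ht ▸ mem_top (g a)) (g b)).symm

/-- The imprimitive case. -/
theorem imprimitive_case (hnp : ¬ IsPreprimitive G Ω) :
    ∃ (F : Type) (_ : Field F) (_ : Fintype F) (m : ℕ), Fintype.card F = 2 ^ m ∧ p = 2 ^ m + 1 ∧
      Nonempty (G ≃* Matrix.ProjectiveSpecialLinearGroup (Fin 2) F) := by
  classical
  haveI := h.trans
  haveI := h.faith
  have hp5 := h.five
  obtain ⟨B, hB, hBnt⟩ : ∃ B : Set Ω, IsBlock G B ∧ ¬ IsTrivialBlock B := by
    by_contra hc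
    push Not at hc
    exact hnp { isTrivialBlock_of_isBlock := fun {B} hB => hc B hB }
  rw [IsTrivialBlock, not_or] at hBnt
  have hne : B.Nonempty := by
    by_contra hc
    rw [Set.not_nonempty_iff_eq_empty] at hc
    exact hBnt.1 (hc ▸ Set.subsingleton_empty)
  have hmul := hB.ncard_block_mul_ncard_orbit_eq hne
  rw [h.card] at hmul
  have hB1 : 1 < B.ncard := Set.one_lt_ncard_iff_nontrivial.2 (Set.not_subsingleton_iff.1 hBnt.1)
  set β := orbit G B
  have hk : Nat.card β = β.ncard := Nat.card_coe_set_eq β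
  have hk1 : β.ncard ≠ 1 := fun e => by
    rw [e, mul_one] at hmul
    exact hBnt.2 (Set.eq_of_subset_of_ncard_le (Set.subset_univ B) (by rw [Set.ncard_univ, h.card, hmul]))
  let f : G →* Equiv.Perm β := toPermHom G β
  have hf : Function.Injective f := by
    rw [← MonoidHom.ker_eq_bot_iff]
    refine (f.normal_ker).eq_bot_or_eq_top.resolve_right fun htop => hk1 ?_
    rw [← hk, Nat.card_eq_one_iff_unique]
    refine ⟨⟨fun x y => ?_⟩, ⟨⟨B, mem_orbit_self B⟩⟩⟩
    obtain ⟨g, hg⟩ := MulAction.exists_smul_eq G x y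
    rw [← hg]
    have hg1 : f g = 1 := MonoidHom.mem_ker.1 (htop ▸ mem_top g)
    exact (DFunLike.congr_fun hg1 x).symm
  haveI := Fintype.ofFinite β
  have hcase : β.ncard = 3 ∨ β.ncard = p := by
    rcases (Nat.dvd_mul.1 (Dvd.intro_left _ hmul : β.ncard ∣ 3 * p)) with ⟨x, y, hx, hy, hxy⟩
    rcases (Nat.dvd_prime Nat.prime_three).1 hx with rfl | rfl <;>
      rcases (Nat.dvd_prime h.prime).1 hy with rfl | rfl
    · omega
    · omega
    · omega
    · exfalso
      rw [← hxy] at hmul
      have : 2 * (3 * y) ≤ B.ncard * (3 * y) := Nat.mul_le_mul_right _ hB1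
      omega
  rcases hcase with h3 | hp
  · exfalso
    have h6 : Nat.card G ∣ (3 : ℕ).factorial := by
      rw [← h3, ← hk, ← Nat.card_perm]
      exact card_dvd_of_injective f hf
    have := (h.prime.dvd_factorial (n := 3)).1 (h.dvd_card.trans h6)
    omega
  · exact h.psl_of_degree_p (by rw [← Nat.card_eq_fintype_card, hk, hp]) f hf

end Hyp

end CfsgLib.DegreeThreeP
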