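import Cfsg.Agent.Lib.DegreeThreeP.Basic
import Cfsg.Agent.Lib.TwoGroups.RankTwoMaxClass

/-!
# The Sylow `2`-subgroups when involutions fix three points (S3254)

Owner: helper5.

* `Hyp.exists_kernel`: `T` fixes `a` and has a subgroup `S` of index two, semiregular off three points.
* `Kernel.dih_or_qd`: if `|T| = 2 |S| = 2 (p - 1)₂`, `T` is dihedral or quasidihedral.
-/

set_option autoImplicit false
set_option linter.unusedSectionVars false

namespace CfsgLib.DegreeThreeP

open Subgroup MulAction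

variable {G Ω : Type*} [Group G] [Finite G] [IsSimpleGroup G] [MulAction G Ω] [Finite Ω]
  {p : ℕ} [Fact p.Prime] {P : Sylow p G}

/-- The subgroup `S` of the Sylow subgroup `T` and its three fixed points. -/
structure Kernel (T : Sylow 2 G) (S : Subgroup G) (a b b' : Ω) : Prop where
  le : S ≤ (T : Subgroup G)
  two : 2 * Nat.card S = Nat.card (T : Subgroup G)
  ne_ab : a ≠ b
  ne_ab' : a ≠ b'
  ne_bb' : b ≠ b'
  fix_a : ∀ g ∈ (T : Subgroup G), g • a = a
  fix_S : ∀ s ∈ S, s • b = b ∧ s • b' = b'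
  swap : ∀ g ∈ (T : Subgroup G), g ∉ S → g • b = b' ∧ g • b' = b
  free : ∀ s ∈ S, s ≠ 1 → ∀ x : Ω, s • x = x → x = a ∨ x = b ∨ x = b'

/-- A subgroup in which every nontrivial element fixes exactly the points of one set of three. -/
theorem card_dvd_of_three {K : Subgroup G} {n : ℕ} (hΩ : Nat.card Ω = n)
    (hK : ∀ k ∈ K, k ≠ 1 → Nat.card (fixedBy Ω k) = 3) : Nat.card K ∣ n - 3 := by
  classical
  haveI := Fintype.ofFinite Ω
  haveI := Fintype.ofFinite K
  haveI := Fintype.ofFinite (Quotient (orbitRel K Ω))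
  have hB := sum_card_fixedBy_eq_card_orbits_mul_card_group K Ω
  rw [← Finset.add_sum_erase _ _ (Finset.mem_univ (1 : K)),
    Finset.sum_congr rfl (s₁ := Finset.univ.erase (1 : K)) (g := fun _ => 3) (fun k hk => by
      rw [← Nat.card_eq_fintype_card, ← hK (k : G) k.2 (fun e => Finset.ne_of_mem_erase hk (Subtype.ext e))]
      rfl),
    Finset.sum_const, Finset.card_erase_of_mem (Finset.mem_univ _), Finset.card_univ,
    ← Nat.card_eq_fintype_card, ← Nat.card_eq_fintype_card (α := K), ← Nat.card_eq_fintype_card] at hB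
  have h1 : Nat.card (fixedBy Ω (1 : K)) = n := by
    rw [← hΩ]; exact Nat.card_congr ((Equiv.setCongr (by ext x; simp)).trans (Equiv.Set.univ Ω))
  rw [h1, smul_eq_mul] at hB
  generalize Nat.card (Quotient (orbitRel K Ω)) = o at hB
  rcases Nat.lt_or_ge n 3 with hlt | hge
  · rw [Nat.sub_eq_zero_of_le hlt.le]; exact dvd_zero _
  obtain ⟨k, hk⟩ : ∃ k, Nat.card K = k + 1 := ⟨Nat.card K - 1, by have := Nat.card_pos (α := K); omega⟩
  rw [hk, Nat.add_sub_cancel] at hB
  rw [hk]
  have : (k + 1) ∣ (n - 3) + 3 * (k + 1) := ⟨o, by rw [mul_comm (k + 1) o, ← hB]; omega⟩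
  exact (Nat.dvd_add_left (dvd_mul_left _ _)).1 this

/-- The fixed points of a nontrivial element of a `2`-group are among those of an involution. -/
theorem exists_involution_pow {T : Subgroup G} (hT : IsPGroup 2 T) {g : G} (hg : g ∈ T) (h1 : g ≠ 1) :
    ∃ i : ℕ, orderOf (g ^ i) = 2 := by
  obtain ⟨k, hk⟩ := hT ⟨g, hg⟩
  have hd : orderOf g ∣ 2 ^ k := orderOf_dvd_of_pow_eq_one (congrArg Subtype.val hk)
  obtain ⟨j, -, hj⟩ := (Nat.dvd_prime_pow Nat.prime_two).1 hd
  rcases Nat.eq_zero_or_pos j with rfl | hj0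
  · exact absurd (orderOf_eq_one_iff.1 (by simpa using hj)) h1
  · refine ⟨orderOf g / 2, orderOf_pow_orderOf_div (orderOf_pos g).ne' ?_⟩
    rw [hj]; exact dvd_pow_self 2 (by omega)

/-- The fixed points of `g` other than `a`. -/
theorem card_fixed_ne {g : G} {a : Ω} (ha : g • a = a) :
    Nat.card {y : Ω // g • y = y ∧ y ≠ a} + 1 = Nat.card (fixedBy Ω g) := by
  rw [Nat.card_coe_set_eq, show Nat.card {y : Ω // g • y = y ∧ y ≠ a} = (fixedBy Ω g \ {a}).ncard from
    Nat.card_coe_set_eq (fixedBy Ω g \ {a})]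
  exact Set.ncard_diff_singleton_add_one (show a ∈ fixedBy Ω g from ha)

namespace Hyp

variable (h : Hyp G Ω p P) (h3 : ∀ t : G, orderOf t = 2 → Nat.card (fixedBy Ω t) = 3)
include h h3

theorem exists_kernel (hlt : v2 (p - 1) < v2 (Nat.card G)) :
    ∃ (T : Sylow 2 G) (S : Subgroup G) (a b b' : Ω), Kernel T S a b b' ∧ Nat.card S ∣ 3 * p - 3 := by
  classical
  haveI := Fact.mk Nat.prime_two
  haveI := Fintype.ofFinite Ω
  obtain ⟨T⟩ : Nonempty (Sylow 2 G) := inferInstance
  have hp5 := h.five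
  have hpodd : p % 2 = 1 := Nat.odd_iff.1 (h.prime.odd_of_ne_two (by omega))
  have hTcard : Nat.card (T : Subgroup G) = 2 ^ v2 (Nat.card G) := T.card_eq_multiplicity
  obtain ⟨a, ha⟩ := (T.isPGroup' : IsPGroup 2 (T : Subgroup G)).nonempty_fixed_point_of_prime_not_dvd_card Ω
    (by rw [h.card]; omega)
  have hTa : ∀ g ∈ (T : Subgroup G), g • a = a := fun g hg => ha ⟨g, hg⟩
  haveI : Nontrivial (T : Subgroup G) := Finite.one_lt_card_iff_nontrivial.1 (by
    rw [hTcard]; exact Nat.one_lt_two_pow (by omega))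
  haveI := (T.isPGroup' : IsPGroup 2 (T : Subgroup G)).center_nontrivial
  obtain ⟨⟨c, hc⟩, hc1⟩ := exists_ne (1 : Subgroup.center (T : Subgroup G))
  obtain ⟨i, hi⟩ := exists_involution_pow T.isPGroup' c.2
    (fun e => hc1 (Subtype.ext (Subtype.ext e)))
  set u : G := (c : G) ^ i with hu
  have huT : u ∈ (T : Subgroup G) := pow_mem c.2 i
  have hcomm : ∀ g ∈ (T : Subgroup G), g * u = u * g := fun g hg => by
    have h' : g * (c : G) = (c : G) * g := congrArg Subtype.val (mem_center_iff.1 hc ⟨g, hg⟩)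
    exact (Commute.pow_right h' i).eq
  have hFinv : ∀ g ∈ (T : Subgroup G), ∀ x : Ω, u • x = x → u • (g • x) = g • x := fun g hg x hx => by
    rw [← mul_smul, ← hcomm g hg, mul_smul, hx]
  have hF := h3 u hi
  have hrest : Nat.card {x : Ω // u • x = x ∧ x ≠ a} = 2 := by
    have := card_fixed_ne (hTa u huT)
    omega
  obtain ⟨⟨b, hb, hba⟩, ⟨b', hb', hb'a⟩, hne, huniv⟩ := Nat.card_eq_two_iff.1 hrest
  have hne' : b ≠ b' := fun e => hne (Subtype.ext e)
  have hcases : ∀ x : Ω, u • x = x → x = a ∨ x = b ∨ x = b' := fun x hx => by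
    by_cases hxa : x = a
    · exact Or.inl hxa
    have hmem : (⟨x, hx, hxa⟩ : {x : Ω // u • x = x ∧ x ≠ a}) ∈ (Set.univ : Set _) := Set.mem_univ _
    rw [← huniv] at hmem
    rcases hmem with e | e
    · exact Or.inr (Or.inl (congrArg Subtype.val e))
    · exact Or.inr (Or.inr (congrArg Subtype.val e))
  have himg : ∀ g ∈ (T : Subgroup G), (g • b = b ∧ g • b' = b') ∨ (g • b = b' ∧ g • b' = b) := by
    intro g hg
    have hinj := MulAction.injective (β := Ω) g
    have e1 := (hcases _ (hFinv g hg b hb)).resolve_left fun e => hba (hinj (e.trans (hTa g hg).symm))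
    have e2 := (hcases _ (hFinv g hg b' hb')).resolve_left fun e => hb'a (hinj (e.trans (hTa g hg).symm))
    rcases e1 with e1 | e1 <;> rcases e2 with e2 | e2
    · exact absurd (hinj (e1.trans e2.symm)) hne'
    · exact Or.inl ⟨e1, e2⟩
    · exact Or.inr ⟨e1, e2⟩
    · exact absurd (hinj (e1.trans e2.symm)) hne'
  set S := (T : Subgroup G) ⊓ stabilizer G b with hS
  have hSfix : ∀ s ∈ S, s • b = b ∧ s • b' = b' := fun s hs =>
    (himg s hs.1).resolve_right fun e => hne' ((show s • b = b from hs.2).symm.trans e.1)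
  have hfree : ∀ s ∈ S, s ≠ 1 → ∀ x : Ω, s • x = x → x = a ∨ x = b ∨ x = b' := by
    intro s hs hs1 x hx
    obtain ⟨j, hj⟩ := exists_involution_pow T.isPGroup' hs.1 hs1
    have hpow : ∀ y : Ω, s • y = y → (s ^ j) • y = y := fun y hy =>
      (pow_mem (show s ∈ stabilizer G y from hy) j : _)
    by_contra hxc
    push Not at hxc
    have hsub : ({a, b, b', x} : Finset Ω) ⊆ Finset.univ.filter fun y => (s ^ j) • y = y := by
      intro y hy
      simp only [Finset.mem_insert, Finset.mem_singleton] at hy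
      rw [Finset.mem_filter]
      refine ⟨Finset.mem_univ _, hpow y ?_⟩
      rcases hy with rfl | rfl | rfl | rfl
      · exact hTa s hs.1
      · exact (hSfix s hs).1
      · exact (hSfix s hs).2
      · exact hx
    have h4 : ({a, b, b', x} : Finset Ω).card = 4 := by
      rw [Finset.card_insert_of_notMem, Finset.card_insert_of_notMem, Finset.card_pair hxc.2.2.symm]
      · simp [hne', Ne.symm hxc.2.1]
      · simp [Ne.symm hba, Ne.symm hb'a, Ne.symm hxc.1]
    have h5 : ((Finset.univ : Finset Ω).filter fun y => (s ^ j) • y = y).card = Nat.card (fixedBy Ω (s ^ j)) := by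
      rw [Nat.card_eq_fintype_card, ← Fintype.card_subtype]
      exact Fintype.card_congr (Equiv.refl _)
    have := Finset.card_le_card hsub
    rw [h5, h3 _ hj] at this
    omega
  have hdvd : Nat.card S ∣ 3 * p - 3 := by
    refine card_dvd_of_three h.card fun s hs hs1 => ?_
    have e : fixedBy Ω s = ({a, b, b'} : Set Ω) := by
      ext x
      simp only [mem_fixedBy, Set.mem_insert_iff, Set.mem_singleton_iff]
      refine ⟨hfree s hs hs1 x, ?_⟩
      rintro (rfl | rfl | rfl)
      · exact hTa s hs.1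
      · exact (hSfix s hs).1
      · exact (hSfix s hs).2
    rw [e, Nat.card_coe_set_eq]
    exact Set.ncard_eq_three.2 ⟨a, b, b', Ne.symm hba, Ne.symm hb'a, hne', rfl⟩
  have hsw : ∀ g ∈ (T : Subgroup G), g ∉ S → g • b = b' ∧ g • b' = b := fun g hg hgS =>
    (himg g hg).resolve_left fun e => hgS ⟨hg, e.1⟩
  obtain ⟨g0, hg0, hg0S⟩ : ∃ g ∈ (T : Subgroup G), g ∉ S := by
    by_contra hall
    push Not at hall
    rw [show S = (T : Subgroup G) from le_antisymm inf_le_left hall, hTcard] at hdvd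
    have h' := le_v2 (by omega) hdvd
    rw [show 3 * p - 3 = 3 * (p - 1) by omega, v2_mul three_ne_zero (by omega),
      v2_of_odd (show 3 % 2 = 1 by norm_num)] at h'
    omega
  have htwo : (S.subgroupOf (T : Subgroup G)).index = 2 := by
    rw [index_eq_two_iff]
    refine ⟨⟨g0, hg0⟩, fun x => ?_⟩
    simp only [mem_subgroupOf, Subgroup.coe_mul]
    by_cases hx : (x : G) ∈ S
    · refine Or.inr ⟨hx, fun e => hg0S ?_⟩
      have := S.mul_mem (S.inv_mem hx) e
      rwa [inv_mul_cancel_left] at this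
    · refine Or.inl ⟨⟨mul_mem x.2 hg0, ?_⟩, hx⟩
      show ((x : G) * g0) • b = b
      rw [mul_smul, (hsw g0 hg0 hg0S).1, (hsw x x.2 hx).2]
  have h2S : 2 * Nat.card S = Nat.card (T : Subgroup G) := by
    rw [← index_mul_card (S.subgroupOf (T : Subgroup G)), htwo,
      Nat.card_congr (subgroupOfEquivOfLe (inf_le_left : S ≤ (T : Subgroup G))).toEquiv]
  exact ⟨T, S, a, b, b', ⟨inf_le_left, h2S, Ne.symm hba, Ne.symm hb'a, hne', hTa, hSfix, hsw, hfree⟩, hdvd⟩

end Hyp

namespace Kernel

variable {T : Sylow 2 G} {S : Subgroup G} {a b b' : Ω}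
variable (h : Hyp G Ω p P) (h3 : ∀ t : G, orderOf t = 2 → Nat.card (fixedBy Ω t) = 3)
  (hK : Kernel T S a b b')
include h h3 hK

omit h h3 in
/-- Elements of `T - S` which are not involutions fix only `a`. -/
theorem fix_only {g : G} (hg : g ∈ (T : Subgroup G)) (hgS : g ∉ S) (hg2 : g * g ≠ 1) {x : Ω}
    (hx : g • x = x) : x = a := by
  have hsqT : g * g ∈ S := by
    by_contra hn
    have e := (hK.swap _ (mul_mem hg hg) hn).1
    rw [mul_smul, (hK.swap g hg hgS).1, (hK.swap g hg hgS).2] at e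
    exact hK.ne_bb' e
  rcases hK.free _ hsqT hg2 x (by rw [mul_smul, hx, hx]) with e | e | e
  · exact e
  · subst e; exact absurd ((hK.swap g hg hgS).1.symm.trans hx).symm hK.ne_bb'
  · subst e; exact absurd ((hK.swap g hg hgS).2.symm.trans hx) hK.ne_bb'

theorem dih_or_qd (hS : Nat.card S = 2 ^ v2 (p - 1)) (hp4 : p % 4 = 1) :
    CfsgLib.TwoGroups.RankTwoTypes.IsDihOrQD (T : Subgroup G) := by
  classical
  haveI := Fact.mk Nat.prime_two
  haveI := Fintype.ofFinite Ω
  have hp5 := h.five
  have he : 2 ≤ v2 (p - 1) := le_v2 (by omega) (by norm_num; omega)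
  have hTp : IsPGroup 2 (T : Subgroup G) := T.isPGroup'
  -- an involution outside `S`
  obtain ⟨v, hvT, hvS, hv⟩ : ∃ v ∈ (T : Subgroup G), v ∉ S ∧ v * v = 1 := by
    by_contra hno
    push Not at hno
    set K := (T : Subgroup G) with hKdef
    haveI := Fintype.ofFinite K
    haveI := Fintype.ofFinite (Quotient (orbitRel K Ω))
    have hB := sum_card_fixedBy_eq_card_orbits_mul_card_group K Ω
    have hval : ∀ k : K, k ≠ 1 → Fintype.card (fixedBy Ω k) = if (k : G) ∈ S then 3 else 1 := by
      intro k hk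
      have hk1 : (k : G) ≠ 1 := fun e => hk (Subtype.ext e)
      rw [← Nat.card_eq_fintype_card, show fixedBy Ω k = fixedBy Ω (k : G) from rfl]
      split_ifs with hkS
      · rw [Nat.card_coe_set_eq]
        refine Set.ncard_eq_three.2 ⟨a, b, b', hK.ne_ab, hK.ne_ab', hK.ne_bb', ?_⟩
        ext x
        simp only [mem_fixedBy, Set.mem_insert_iff, Set.mem_singleton_iff]
        refine ⟨hK.free k hkS hk1 x, ?_⟩
        rintro (rfl | rfl | rfl)
        · exact hK.fix_a k k.2
        · exact (hK.fix_S k hkS).1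
        · exact (hK.fix_S k hkS).2
      · rw [Nat.card_coe_set_eq, Set.ncard_eq_one]
        exact ⟨a, Set.eq_singleton_iff_unique_mem.2
          ⟨hK.fix_a k k.2, fun x hx => fix_only hK k.2 hkS (hno k k.2 hkS) hx⟩⟩
    rw [← Finset.add_sum_erase _ _ (Finset.mem_univ (1 : K)),
      Finset.sum_congr rfl (s₁ := Finset.univ.erase (1 : K)) (fun k hk => hval k (Finset.ne_of_mem_erase hk))] at hB
    have h1 : Fintype.card (fixedBy Ω (1 : K)) = 3 * p := by
      rw [← Nat.card_eq_fintype_card, ← h.card]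
      exact Nat.card_congr ((Equiv.setCongr (by ext x; simp)).trans (Equiv.Set.univ Ω))
    have h2 : ∑ k ∈ Finset.univ.erase (1 : K), (if (k : G) ∈ S then 3 else 1) + 3 = 4 * Nat.card S := by
      have h' := Finset.add_sum_erase (Finset.univ : Finset K) (fun k => if (k : G) ∈ S then 3 else 1)
        (Finset.mem_univ (1 : K))
      rw [if_pos (show ((1 : K) : G) ∈ S from S.one_mem)] at h'
      rw [add_comm, h', Finset.sum_ite, Finset.sum_const, Finset.sum_const, smul_eq_mul, smul_eq_mul, mul_one]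
      have hs : (Finset.univ.filter fun k : K => (k : G) ∈ S).card = Nat.card S := by
        rw [← Fintype.card_subtype, ← Nat.card_eq_fintype_card]
        exact Nat.card_congr ⟨fun k => ⟨(k.1 : G), k.2⟩, fun s => ⟨⟨s.1, hK.le s.2⟩, s.2⟩,
          fun k => rfl, fun s => rfl⟩
      have hsum := Finset.card_filter_add_card_filter_not (s := (Finset.univ : Finset K)) (fun k => (k : G) ∈ S)
      rw [Finset.card_univ, ← Nat.card_eq_fintype_card, ← hK.two] at hsum
      omega
    rw [h1, ← Nat.card_eq_fintype_card, ← Nat.card_eq_fintype_card (α := K), ← hK.two] at hB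
    generalize Nat.card (Quotient (orbitRel K Ω)) = o at hB
    have hd : 2 * Nat.card S ∣ 3 * (p - 1) := by
      have hd' : 2 * Nat.card S ∣ 3 * (p - 1) + 2 * (2 * Nat.card S) :=
        ⟨o, by rw [mul_comm (2 * Nat.card S) o, ← hB]; omega⟩
      exact (Nat.dvd_add_left (dvd_mul_left _ _)).1 hd'
    rw [hS, ← pow_succ'] at hd
    have h' := le_v2 (by omega) hd
    rw [v2_mul three_ne_zero (by omega), v2_of_odd (show 3 % 2 = 1 by norm_num)] at h'
    omega
  have hv1 : v ≠ 1 := fun e => hvS (e ▸ S.one_mem)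
  have hvo : orderOf v = 2 := orderOf_eq_prime (by rwa [pow_two]) hv1
  -- a central involution
  haveI : Nontrivial (T : Subgroup G) :=
    ⟨⟨⟨v, hvT⟩, 1, fun e => hv1 (congrArg Subtype.val e)⟩⟩
  haveI := hTp.center_nontrivial
  obtain ⟨⟨c, hc⟩, hc1⟩ := exists_ne (1 : Subgroup.center (T : Subgroup G))
  obtain ⟨i, hi⟩ := exists_involution_pow hTp c.2 (fun e => hc1 (Subtype.ext (Subtype.ext e)))
  set z : (T : Subgroup G) := c ^ i with hz
  have hzc : z ∈ Subgroup.center (T : Subgroup G) := pow_mem hc i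
  have hzo : orderOf z = 2 := by rw [← Subgroup.orderOf_coe, hz, SubgroupClass.coe_pow]; exact hi
  -- the points moved by `v`
  obtain ⟨x, hx, hxF⟩ : ∃ x : Ω, v • x = x ∧ x ≠ a ∧ x ≠ b ∧ x ≠ b' := by
    by_contra hno
    push Not at hno
    have hsub : fixedBy Ω v ⊆ {a} := fun x hx => by
      by_contra hxa
      by_cases hxb : x = b
      · subst hxb; exact hK.ne_bb' ((show v • x = x from hx).symm.trans (hK.swap v hvT hvS).1)
      have hxb' := hno x hx hxa hxb
      subst hxb'
      exact hK.ne_bb' ((hK.swap v hvT hvS).2.symm.trans hx)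
    have hle := Set.ncard_le_ncard hsub
    rw [← Nat.card_coe_set_eq, h3 v hvo, Set.ncard_singleton] at hle
    omega
  have hb' : ∀ g ∈ (T : Subgroup G), g • b = b ∨ g • b = b' := fun g hg => by
    by_cases hgS : g ∈ S
    · exact Or.inl (hK.fix_S g hgS).1
    · exact Or.inr (hK.swap g hg hgS).1
  have hfixv : Nat.card {y : Ω // v • y = y ∧ y ≠ a} = 2 := by
    have h' := card_fixed_ne (hK.fix_a v hvT)
    have := h3 v hvo
    omega
  set C := Subgroup.centralizer ({(⟨v, hvT⟩ : (T : Subgroup G))} : Set (T : Subgroup G)) with hC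
  have hCle : Nat.card C ≤ 4 := by
    have hmove : ∀ k : C, v • (((k : (T : Subgroup G)) : G) • x) = ((k : (T : Subgroup G)) : G) • x ∧
        ((k : (T : Subgroup G)) : G) • x ≠ a := by
      intro k
      have hk : ((k : (T : Subgroup G)) : G) * v = v * ((k : (T : Subgroup G)) : G) :=
        congrArg Subtype.val (mem_centralizer_singleton_iff.1 k.2)
      refine ⟨by rw [← mul_smul, ← hk, mul_smul, hx], fun e => hxF.1 ?_⟩
      exact MulAction.injective _ (e.trans (hK.fix_a _ (k : (T : Subgroup G)).2).symm)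
    let f : C → {y : Ω // y = b ∨ y = b'} × {y : Ω // v • y = y ∧ y ≠ a} := fun k =>
      (⟨_, hb' _ (k : (T : Subgroup G)).2⟩, ⟨_, hmove k⟩)
    have hf : Function.Injective f := by
      intro k l e
      have e1 := congrArg (fun q => (q.1 : Ω)) e
      have e2 := congrArg (fun q => (q.2 : Ω)) e
      simp only [f] at e1 e2
      set g : G := ((l : (T : Subgroup G)) : G)⁻¹ * ((k : (T : Subgroup G)) : G) with hg
      have hgT : g ∈ (T : Subgroup G) := mul_mem (inv_mem (l : (T : Subgroup G)).2) (k : (T : Subgroup G)).2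
      have hgb : g • b = b := by rw [hg, mul_smul, e1, inv_smul_smul]
      have hgx : g • x = x := by rw [hg, mul_smul, e2, inv_smul_smul]
      by_cases hg1 : g = 1
      · rw [hg, inv_mul_eq_one] at hg1
        exact Subtype.ext (Subtype.ext hg1.symm)
      by_cases hgS : g ∈ S
      · rcases hK.free g hgS hg1 x hgx with e' | e' | e'
        · exact absurd e' hxF.1
        · exact absurd e' hxF.2.1
        · exact absurd e' hxF.2.2
      · exact absurd (hgb.symm.trans (hK.swap g hgT hgS).1) hK.ne_bb'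
    have h22 : Nat.card {y : Ω // y = b ∨ y = b'} = 2 := by
      rw [show {y : Ω // y = b ∨ y = b'} = ↥({b, b'} : Set Ω) from rfl, Nat.card_coe_set_eq,
        Set.ncard_pair hK.ne_bb']
    have := Nat.card_le_card_of_injective f hf
    rwa [Nat.card_prod, h22, hfixv] at this
  have hzS : (z : G) ∈ S := by
    by_contra hn
    -- then `z` moves `b`, but it centralises an involution of `S`
    have hScard : 1 < Nat.card S := by rw [hS]; exact Nat.one_lt_two_pow (by omega)
    haveI : Nontrivial S := Finite.one_lt_card_iff_nontrivial.1 hScard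
    obtain ⟨⟨s, hs⟩, hs1⟩ := exists_ne (1 : S)
    have hs1' : s ≠ 1 := fun e => hs1 (Subtype.ext e)
    have hcm : (z : G) * s = s * z :=
      (congrArg Subtype.val (mem_center_iff.1 hzc ⟨s, hK.le hs⟩)).symm
    obtain ⟨y, hy, hya⟩ : ∃ y : Ω, (z : G) • y = y ∧ y ≠ a := by
      by_contra hno
      push Not at hno
      have hsub : fixedBy Ω (z : G) ⊆ {a} := fun y hy => hno y hy
      have hle := Set.ncard_le_ncard hsub
      rw [← Nat.card_coe_set_eq, h3 _ (by rw [Subgroup.orderOf_coe]; exact hzo), Set.ncard_singleton] at hle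
      omega
    have hyb : y ≠ b := fun e => by subst e; exact hK.ne_bb' ((hK.swap _ z.2 hn).1 ▸ hy).symm
    have hyb' : y ≠ b' := fun e => by subst e; exact hK.ne_bb' ((hK.swap _ z.2 hn).2 ▸ hy)
    -- `S` acts freely on the two fixed points of `z` other than `a`
    let f : S → {w : Ω // (z : G) • w = w ∧ w ≠ a} := fun s' => ⟨(s' : G) • y, by
      have hcm' : (z : G) * (s' : G) = (s' : G) * z :=
        (congrArg Subtype.val (mem_center_iff.1 hzc ⟨s', hK.le s'.2⟩)).symm
      exact ⟨by rw [← mul_smul, hcm', mul_smul, hy],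
        fun e => hya (MulAction.injective _ (e.trans (hK.fix_a _ (hK.le s'.2)).symm))⟩⟩
    have hf : Function.Injective f := by
      intro k l e
      have e1 : (k : G) • y = (l : G) • y := congrArg Subtype.val e
      by_contra hkl
      have h1 : (l : G)⁻¹ * k ≠ 1 := fun e' => hkl (Subtype.ext (inv_mul_eq_one.1 e').symm)
      rcases hK.free _ (mul_mem (inv_mem l.2) k.2) h1 y (by rw [mul_smul, e1, inv_smul_smul]) with e' | e' | e'
      · exact hya e'
      · exact hyb e'
      · exact hyb' e'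
    have hle := Nat.card_le_card_of_injective f hf
    have h2' : Nat.card {w : Ω // (z : G) • w = w ∧ w ≠ a} = 2 := by
      have h' := card_fixed_ne (hK.fix_a _ z.2)
      have := h3 (z : G) (by rw [Subgroup.orderOf_coe]; exact hzo)
      omega
    rw [h2', hS] at hle
    have : 2 ^ 2 ≤ 2 ^ v2 (p - 1) := Nat.pow_le_pow_right two_pos he
    omega
  have hzv : z ≠ ⟨v, hvT⟩ := fun e => hvS (by rw [e] at hzS; exact hzS)
  have hC4 : Nat.card C = 4 := by
    refine le_antisymm hCle ?_
    have hvC : (⟨v, hvT⟩ : (T : Subgroup G)) ∈ C := mem_centralizer_singleton_iff.2 rfl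
    have hzC : z ∈ C := mem_centralizer_singleton_iff.2 (mem_center_iff.1 hzc _).symm
    haveI := Fintype.ofFinite C
    rw [Nat.card_eq_fintype_card]
    have hz1 : z ≠ 1 := fun e => by rw [e, orderOf_one] at hzo; omega
    have hv1' : (⟨v, hvT⟩ : (T : Subgroup G)) ≠ 1 := fun e => hv1 (congrArg Subtype.val e)
    have hv2 : (⟨v, hvT⟩ : (T : Subgroup G)) * ⟨v, hvT⟩ = 1 := Subtype.ext hv
    have hz2 : z * z = 1 := by
      have h' := pow_orderOf_eq_one z
      rwa [hzo, pow_two] at h'
    have h4 : ({1, ⟨z, hzC⟩, ⟨_, hvC⟩, ⟨z, hzC⟩ * ⟨_, hvC⟩} : Finset C).card = 4 := by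
      rw [Finset.card_insert_of_notMem, Finset.card_insert_of_notMem, Finset.card_pair]
      · simp [Subtype.ext_iff, hz1]
      · simp only [Finset.mem_insert, Finset.mem_singleton, Subtype.ext_iff, not_or]
        exact ⟨fun e => hzv (Subtype.ext e), fun e => hv1' (Subtype.ext (by simpa using e.symm))⟩
      · simp only [Finset.mem_insert, Finset.mem_singleton, Subtype.ext_iff, not_or]
        refine ⟨fun e => hz1 (Subtype.ext e.symm), fun e => hv1' (Subtype.ext e.symm), fun e => hzv ?_⟩
        have e' : z * (⟨v, hvT⟩ : (T : Subgroup G)) = 1 := Subtype.ext (by simpa using e.symm)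
        calc z = z * (⟨v, hvT⟩ * ⟨v, hvT⟩) := by rw [hv2, mul_one]
          _ = ⟨v, hvT⟩ := by rw [← mul_assoc, e', one_mul]
    calc 4 = _ := h4.symm
      _ ≤ Fintype.card C := Finset.card_le_univ _
  refine CfsgLib.TwoGroups.RankTwoTypes.isDihOrQD_of_centralizer_four hTp hzc hzo ?_ hzv hC4
  rw [← Subgroup.orderOf_coe]; exact hvo

end Kernel

end CfsgLib.DegreeThreeP
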