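import Cfsg.Agent.Lib.DegreeThreeP.Block
import Cfsg.Agent.Lib.DegreeThreeP.SylowTwo
import Cfsg.Agent.Lib.Perm.WielandtTwoP.Orbital
import Cfsg.Agent.Lib.Perm.ThreePrimeOrder.Order5040

/-!
# Rank three in degree `3 p`: no quasidihedral Sylow `2`-subgroup (S3254)

Owner: helper5.

* `Hyp.false_of_generator`: no element of order `|S|` lies outside `S` when `8 ∣ |S|` (the orbital count).
* `Hyp.not_quasiDihedral`.
-/

set_option autoImplicit false
set_option linter.unusedSectionVars false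

namespace CfsgLib.DegreeThreeP

open Subgroup MulAction CfsgLib.Char Cfsg CfsgLib.Perm
open scoped _root_.Classical ComplexConjugate

/-- A group acting freely on a finite type has order dividing its size. -/
theorem card_dvd_of_free {K X : Type*} [Group K] [Finite K] [MulAction K X] [Finite X]
    (hfree : ∀ k : K, k ≠ 1 → ∀ x : X, k • x ≠ x) : Nat.card K ∣ Nat.card X := by
  haveI := Fintype.ofFinite K
  haveI := Fintype.ofFinite X
  haveI := Fintype.ofFinite (Quotient (orbitRel K X))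
  have hB := sum_card_fixedBy_eq_card_orbits_mul_card_group K X
  rw [Finset.sum_eq_single (1 : K) (fun k _ hk => Fintype.card_eq_zero_iff.2 ⟨fun x => hfree k hk x.1 x.2⟩)
    (fun e => absurd (Finset.mem_univ _) e)] at hB
  rw [Nat.card_eq_fintype_card, Nat.card_eq_fintype_card,
    ← Fintype.card_congr ((Equiv.setCongr (show fixedBy X (1 : K) = Set.univ by ext x; simp)).trans
      (Equiv.Set.univ X)), hB]
  exact dvd_mul_left _ _

/-- The arithmetic of the eigenvalues. -/
theorem orbital_arith {p k r s : ℤ} (hp : 5 ≤ p) (hk1 : 1 ≤ k) (hk2 : k ≤ 3 * p - 2)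
    (h0 : k + (2 * p - 1) * r + p * s = 0)
    (h2 : k * k + (2 * p - 1) * (r * r) + p * (s * s) = 3 * p * k) :
    ∃ j : ℤ, k = r + j * p ∧ s = -2 * r - j ∧
      ((j = 1 ∧ 2 * p = 6 * r * r + 3 * r + 1) ∨ (j = 2 ∧ 2 * p = 6 * r * r + 9 * r + 4)) := by
  refine ⟨-(s + 2 * r), by linear_combination h0, by ring, ?_⟩
  obtain ⟨j, hj⟩ : ∃ j : ℤ, j = -(s + 2 * r) := ⟨_, rfl⟩
  rw [← hj]
  have hk : k = r + j * p := by rw [hj]; linear_combination h0
  have hs : s = -2 * r - j := by rw [hj]; ring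
  subst hk hs
  have e : p * (j * (j - 3)) + 6 * r * r + 6 * r * j + j * j - 3 * r = 0 := by
    refine mul_left_cancel₀ (show p ≠ 0 by omega) ?_
    linear_combination h2
  rcases (show j ≤ -1 ∨ j = 0 ∨ j = 1 ∨ j = 2 ∨ j = 3 ∨ 4 ≤ j by omega) with c | rfl | rfl | rfl | rfl | c
  · exfalso
    have : 4 ≤ j * (j - 3) := by nlinarith
    nlinarith [sq_nonneg (12 * r + 6 * j - 3), mul_le_mul_of_nonneg_right hp (by omega : (0 : ℤ) ≤ j * (j - 3))]
  · exfalso
    have : r * (2 * r - 1) = 0 := by nlinarith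
    rcases mul_eq_zero.1 this with e' | e' <;> omega
  · exact Or.inl ⟨rfl, by linarith⟩
  · exact Or.inr ⟨rfl, by linarith⟩
  · exfalso
    have : (r + 1) * (2 * r + 3) = 0 := by nlinarith
    rcases mul_eq_zero.1 this with e' | e' <;> omega
  · exfalso
    have : 4 ≤ j * (j - 3) := by nlinarith
    nlinarith [sq_nonneg (12 * r + 6 * j - 3), mul_le_mul_of_nonneg_right hp (by omega : (0 : ℤ) ≤ j * (j - 3))]

/-- The congruence at an element of order at least eight. -/
theorem count_mod_eight {p k r j F : ℤ} (hp : 8 ∣ p - 1) (hk : 8 ∣ k - 1)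
    (hj : (j = 1 ∧ 2 * p = 6 * r * r + 3 * r + 1) ∨ (j = 2 ∧ 2 * p = 6 * r * r + 9 * r + 4))
    (hF : F = r + j * p + k * (3 * r + j)) : F % 8 = 4 ∨ F % 8 = 6 := by
  obtain ⟨x, hx⟩ := hp
  obtain ⟨y, hy⟩ := hk
  obtain rfl : p = 8 * x + 1 := by omega
  obtain rfl : k = 8 * y + 1 := by omega
  rcases hj with ⟨rfl, h⟩ | ⟨rfl, h⟩
  · rcases Int.even_or_odd r with ⟨m, rfl⟩ | ⟨m, rfl⟩
    · exfalso; ring_nf at h; omega
    · ring_nf at hF; right; omega
  · rcases Int.even_or_odd r with ⟨m, rfl⟩ | ⟨m, rfl⟩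
    · ring_nf at hF; left; omega
    · exfalso; ring_nf at h; omega

variable {G Ω : Type*} [Group G] [Fintype G] [IsSimpleGroup G] [MulAction G Ω] [Finite Ω]
  {p : ℕ} [Fact p.Prime] {P : Sylow p G}

namespace Hyp

variable (h : Hyp G Ω p P) (h3 : ∀ t : G, orderOf t = 2 → Nat.card (fixedBy Ω t) = 3)
  {χ η : IrrCharacter G} (hgood : Good P χ (2 * p - 1)) (hχT : χ ≠ trivChar G) (hηT : η ≠ trivChar G)
  (hηχ : η ≠ χ) (hη1 : (η : G → ℂ) 1 = (p : ℂ))
  (hηs : ∀ x ∈ FewSylow.star (P : Subgroup G), (η : G → ℂ) x = 0)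
  (hπ : ∀ g : G, (Nat.card (fixedBy Ω g) : ℂ) = 1 + (χ : G → ℂ) g + (η : G → ℂ) g)
  (hu : ∀ u : G, orderOf u = 2 → (χ : G → ℂ) u = 1)
  (hv : v2 (Nat.card G) = v2 (p - 1) + 1)
  {T : Sylow 2 G} {S : Subgroup G} {a b b' : Ω} (hK : Kernel T S a b b')
  (hS : Nat.card S = 2 ^ v2 (p - 1)) (he : 3 ≤ v2 (p - 1))
include h h3 hgood hχT hηT hηχ hη1 hηs hπ hu hv hK hS he

set_option maxHeartbeats 1000000 in
theorem false_of_generator {g : G} (hgT : g ∈ (T : Subgroup G)) (hgS : g ∉ S)
    (hgo : orderOf g = 2 ^ v2 (p - 1)) : False := by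
  haveI := Fintype.ofFinite Ω
  haveI := Fintype.ofFinite (IrrCharacter G)
  haveI := h.trans
  haveI : Nonempty Ω := ⟨a⟩
  have hp5 := h.five
  have hpp := h.prime
  set e := v2 (p - 1) with hedef
  have h8 : 8 ∣ 2 ^ e := by rw [show (8 : ℕ) = 2 ^ 3 by norm_num]; exact pow_dvd_pow 2 he
  have hgp : ¬ p ∣ orderOf g := fun hd => by
    rw [hgo] at hd
    have := (Nat.prime_dvd_prime_iff_eq hpp Nat.prime_two).1 (hpp.dvd_of_dvd_pow hd)
    omega
  -- `χ g ≡ 1` modulo eight
  obtain ⟨kg, hkg⟩ := hgood.int g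
  obtain ⟨θ, hθ1, hθ⟩ := hgood.exc
  have hθg : (θ : G → ℂ) g = ((kg - 1 : ℤ) : ℂ) := by rw [hθ g hgp, hkg]; push_cast; ring
  have hθd : charDegree (θ : G → ℂ) = 2 * (p - 1) := by
    refine CfsgLib.CharDegree.charDegree_eq_of_apply_one ?_
    rw [hθ1, show ((2 * (p - 1) : ℕ) : ℂ) = ((2 * p - 1 : ℕ) : ℂ) - 1 by
      rw [show 2 * p - 1 = 2 * (p - 1) + 1 by omega]; push_cast; ring]
  have hk8 : (8 : ℤ) ∣ kg - 1 := by
    by_cases hk1 : kg - 1 = 0
    · rw [hk1]; exact dvd_zero _
    have hd := ThreePrimeOrder.dvd_class_mul hθg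
    rw [hθd] at hd
    set I := (centralizer ({g} : Set G)).index with hI
    have hI0 : I ≠ 0 := index_ne_zero_of_finite
    have hIv : v2 I ≤ 1 := by
      have h1 := (centralizer ({g} : Set G)).card_mul_index
      have h2 : e ≤ v2 (Nat.card (centralizer ({g} : Set G))) := by
        refine le_v2 Nat.card_pos.ne' (hgo ▸ ?_)
        exact Subgroup.orderOf_dvd_natCard _ (mem_centralizer_singleton_iff.2 rfl)
      have h3' := congrArg v2 h1
      rw [← hI, v2_mul Nat.card_pos.ne' hI0, hv] at h3'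
      omega
    have hd2 : 2 ^ (e + 1) ∣ I * (kg - 1).natAbs := by
      refine dvd_trans ?_ hd
      rw [pow_succ']
      exact Nat.mul_dvd_mul_left 2 (two_pow_v2_dvd _)
    have h4 := le_v2 (mul_ne_zero hI0 (Int.natAbs_ne_zero.2 hk1)) hd2
    rw [v2_mul hI0 (Int.natAbs_ne_zero.2 hk1)] at h4
    have h5 : 8 ∣ (kg - 1).natAbs :=
      h8.trans ((pow_dvd_pow 2 (by omega : e ≤ v2 (kg - 1).natAbs)).trans (two_pow_v2_dvd _))
    exact Int.natCast_dvd.2 h5
  have hp8 : (8 : ℤ) ∣ (p : ℤ) - 1 := by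
    have := h8.trans (two_pow_v2_dvd (p - 1))
    obtain ⟨x, hx⟩ := this
    exact ⟨x, by omega⟩
  -- `g` fixes only `a`
  have hgg : g * g ≠ 1 := fun e' => by
    have := orderOf_dvd_of_pow_eq_one (show g ^ 2 = 1 by rw [pow_two]; exact e')
    rw [hgo] at this
    have := Nat.le_of_dvd two_pos (h8.trans this)
    omega
  have hfixg : Nat.card (fixedBy Ω g) = 1 := by
    rw [Nat.card_coe_set_eq, Set.ncard_eq_one]
    exact ⟨a, Set.eq_singleton_iff_unique_mem.2 ⟨hK.fix_a g hgT, fun x hx => Kernel.fix_only hK hgT hgS hgg hx⟩⟩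
  have hηg : (η : G → ℂ) g = ((-kg : ℤ) : ℂ) := by
    have h' := hπ g
    rw [hfixg, hkg, Nat.cast_one] at h'
    push_cast
    linear_combination -h'
  -- an involution
  obtain ⟨u, huo⟩ := exists_prime_orderOf_dvd_card' (G := G) 2 h.even_card
  have hηu : (η : G → ℂ) u = 1 := by
    have h' := hπ u
    rw [h3 u huo, hu u huo] at h'
    push_cast at h'
    linear_combination -h'
  -- the eigenvalues
  set μ : IrrCharacter G → ℕ := fun ψ =>
    (if trivChar G = ψ then 1 else 0) + (if χ = ψ then 1 else 0) + (if η = ψ then 1 else 0) with hμ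
  have hμ1 : μ (trivChar G) = 1 := by
    rw [hμ]; simp [hχT, hηT]
  have hμin : ∀ ψ : IrrCharacter G,
      Cfsg.classInner (fun g : G => (Nat.card (fixedBy Ω g) : ℂ)) (ψ : G → ℂ) = (μ ψ : ℂ) := by
    intro ψ
    rw [show (fun g : G => (Nat.card (fixedBy Ω g) : ℂ)) =
      ((trivChar G : IrrCharacter G) : G → ℂ) + (χ : G → ℂ) + (η : G → ℂ) from
        funext fun g => by rw [hπ g]; simp [trivChar_apply], classInner_add_left, classInner_add_left,
      classInner_irr, classInner_irr, classInner_irr, hμ]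
    simp
  have hμle : ∀ ψ, μ ψ ≤ 1 := fun ψ => by
    rw [hμ]
    dsimp only
    by_cases h1 : trivChar G = ψ
    · subst h1; simp [hχT, hηT]
    by_cases h2' : χ = ψ
    · subst h2'; simp [hηχ, h1]
    simp only [h1, h2', if_false]
    split_ifs <;> omega
  obtain ⟨α, hα1, hα, hαn⟩ := WielandtTwoP.exists_scalars (G := G) (Ω := Ω) μ hμ1 hμin hμle a b
  have hsum : ∀ φ : IrrCharacter G → ℂ,
      ∑ ψ, (μ ψ : ℂ) * φ ψ = φ (trivChar G) + φ χ + φ η := fun φ => by
    simp only [hμ, Nat.cast_add, Nat.cast_ite, Nat.cast_one, Nat.cast_zero, add_mul, ite_mul, one_mul,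
      zero_mul, Finset.sum_add_distrib, Finset.sum_ite_eq, Finset.mem_univ, if_true]
  set k := Nat.card (orbit (stabilizer G a) b) with hk
  have hF : ∀ x : G, (WielandtTwoP.orbCount G a b x : ℂ) =
      (k : ℂ) + α χ * (χ : G → ℂ) x + α η * (η : G → ℂ) x := fun x => by
    rw [hα x, Finset.sum_congr rfl fun ψ _ => mul_assoc _ _ _, hsum (fun ψ => α ψ * (ψ : G → ℂ) x),
      trivChar_apply, hα1, mul_one]
  obtain ⟨w, hw⟩ : (FewSylow.star (P : Subgroup G)).Nonempty := by
    refine Finset.card_pos.1 ?_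
    have := FewSylow.card_star (P : Subgroup G)
    rw [h.card_P] at this
    omega
  set r : ℤ := (k : ℤ) - WielandtTwoP.orbCount G a b w with hr
  set s : ℤ := (WielandtTwoP.orbCount G a b u : ℤ) - k - r with hs
  have hαχ : α χ = (r : ℂ) := by
    have h' := hF w
    rw [hgood.star w hw, hηs w hw] at h'
    rw [hr]; push_cast; linear_combination h'
  have hαη : α η = (s : ℂ) := by
    have h' := hF u
    rw [hu u huo, hηu, hαχ] at h'
    rw [hs]; push_cast; linear_combination -h'
  have hb1 : b ≠ a := hK.ne_ab.symm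
  have hF1 : (WielandtTwoP.orbCount G a b (1 : G)) = 0 := by
    rw [WielandtTwoP.orbCount, Finset.card_eq_zero, Finset.filter_eq_empty_iff]
    rintro v - ⟨x, hxa, hxb⟩
    rw [one_smul] at hxb
    exact hb1 (MulAction.injective x (hxb.trans hxa.symm))
  have h0 : (k : ℤ) + (2 * (p : ℤ) - 1) * r + p * s = 0 := by
    have h' := hF 1
    rw [hF1, hgood.deg, hη1, hαχ, hαη, Nat.cast_sub (by omega)] at h'
    push_cast at h'
    have h'' : (((k : ℤ) + (2 * (p : ℤ) - 1) * r + p * s : ℤ) : ℂ) = ((0 : ℤ) : ℂ) := by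
      push_cast; linear_combination -h'
    exact_mod_cast h''
  have h2 : (k : ℤ) * k + (2 * (p : ℤ) - 1) * (r * r) + p * (s * s) = 3 * p * k := by
    rw [Finset.sum_congr rfl fun ψ _ => mul_assoc _ _ _,
      hsum (fun ψ => conj (α ψ) * α ψ * (ψ : G → ℂ) 1), trivChar_apply, hα1, hαχ, hαη, hgood.deg, hη1,
      Complex.conj_natCast, map_intCast, map_intCast, mul_one, Nat.cast_sub (by omega),
      ← Nat.card_eq_fintype_card, h.card] at hαn
    push_cast at hαn
    have h'' : (((k : ℤ) * k + (2 * (p : ℤ) - 1) * (r * r) + p * (s * s) : ℤ) : ℂ) =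
        ((3 * (p : ℤ) * k : ℤ) : ℂ) := by
      push_cast; linear_combination hαn
    exact_mod_cast h''
  haveI : Nonempty (orbit (stabilizer G a) b) := (nonempty_orbit b).to_subtype
  have hk1 : 1 ≤ k := Nat.card_pos
  have hk2 : k + 2 ≤ 3 * p := by
    by_contra hlt
    push Not at hlt
    haveI := Fintype.ofFinite (orbitRel.Quotient (stabilizer G a) Ω)
    have horb : orbit (stabilizer G a) b = {a}ᶜ := by
      refine Set.eq_of_subset_of_ncard_le (fun x hx => ?_) ?_
      · obtain ⟨⟨m, hm⟩, rfl⟩ := hx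
        exact fun e' => hb1 (MulAction.injective m ((show m • b = a from e').trans (show m • a = a from hm).symm))
      · rw [← Nat.card_coe_set_eq (orbit (stabilizer G a) b), ← hk, Set.ncard_compl, Set.ncard_singleton, h.card]
        omega
    have hle : Nat.card (orbitRel.Quotient (stabilizer G a) Ω) ≤ 2 := by
      refine (Nat.card_le_card_of_surjective
        (fun i : Bool => (Quotient.mk'' (if i then a else b) : orbitRel.Quotient (stabilizer G a) Ω)) ?_).trans
        (by simp)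
      intro q
      induction q using Quotient.inductionOn' with | _ x => ?_
      by_cases hxa : x = a
      · exact ⟨true, by simp [hxa]⟩
      · refine ⟨false, Quotient.sound' ?_⟩
        have hx : x ∈ orbit (stabilizer G a) b := by rw [horb]; exact hxa
        simp only [Bool.false_eq_true, if_false]
        exact MulAction.orbitRel_apply.2 (mem_orbit_symm.1 hx)
    have h3' : Nat.card (orbitRel.Quotient (stabilizer G a) Ω) = 3 := by
      have h' := CentralizerRing.classInner_perm_self (G := G) (Ω := Ω) a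
      rw [show (fun g : G => (Nat.card (fixedBy Ω g) : ℂ)) =
        ((trivChar G : IrrCharacter G) : G → ℂ) + (χ : G → ℂ) + (η : G → ℂ) from
          funext fun g => by rw [hπ g]; simp [trivChar_apply]] at h'
      simp only [classInner_add_left, classInner_add_right, classInner_irr, if_true, if_neg hχT, if_neg hχT.symm,
        if_neg hηT, if_neg hηT.symm, if_neg hηχ, if_neg hηχ.symm] at h'
      norm_num at h'
      rw [Nat.card_eq_fintype_card]
      exact_mod_cast h'.symm
    omega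
  obtain ⟨j, hkj, hsj, hj⟩ := orbital_arith (by exact_mod_cast hp5) (by exact_mod_cast hk1) (by omega) h0 h2
  -- the count at `g`
  have hFg : (WielandtTwoP.orbCount G a b g : ℤ) = r + j * p + kg * (3 * r + j) := by
    have h' := hF g
    rw [hkg, hηg, hαχ, hαη] at h'
    have h'' : ((WielandtTwoP.orbCount G a b g : ℤ) : ℂ) = (((k : ℤ) + r * kg + s * (-kg) : ℤ) : ℂ) := by
      push_cast at h' ⊢; linear_combination h'
    have := Int.cast_inj.1 h''
    rw [this, hkj, hsj]; ring
  have hmod := count_mod_eight hp8 hk8 hj hFg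
  -- but the count is `0` or `2` modulo eight
  set Z : Finset Ω := Finset.univ.filter fun v => OrbitalOp.Rel G a b v (g • v) with hZ
  have hcount : WielandtTwoP.orbCount G a b g = Z.card := by
    rw [WielandtTwoP.orbCount, hZ]
  have hinv : ∀ v, g • v ∈ Z ↔ v ∈ Z := fun v => by
    simp only [hZ, Finset.mem_filter, Finset.mem_univ, true_and]
    exact OrbitalOp.rel_smul_iff a b v (g • v) g
  have haZ : a ∉ Z := fun hmem => by
    simp only [hZ, Finset.mem_filter, Finset.mem_univ, true_and, hK.fix_a g hgT] at hmem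
    obtain ⟨x, hxa, hxb⟩ := hmem
    exact hb1 (MulAction.injective x (hxb.trans hxa.symm))
  obtain ⟨hgb, hgb'⟩ := hK.swap g hgT hgS
  set Z' := (Z.erase b).erase b' with hZ'
  have hdvd : 8 ∣ Z'.card := by
    refine h8.trans ?_
    rw [← hgo, ← Nat.card_zpowers]
    have hmemZ' : ∀ v, g • v ∈ Z' ↔ v ∈ Z' := fun v => by
      simp only [hZ', Finset.mem_erase, hinv]
      refine ⟨fun ⟨h1, h2, h3'⟩ => ⟨fun e' => h2 (e' ▸ hgb'), fun e' => h1 (e' ▸ hgb), h3'⟩,
        fun ⟨h1, h2, h3'⟩ => ⟨fun e' => h2 (MulAction.injective g (e'.trans hgb.symm)),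
          fun e' => h1 (MulAction.injective g (e'.trans hgb'.symm)), h3'⟩⟩
    have hz : ∀ (q : Subgroup.zpowers g) (v : Ω), v ∈ Z' → (q : G) • v ∈ Z' := by
      rintro ⟨q, hq⟩ v hv'
      obtain ⟨i, rfl⟩ := mem_zpowers_iff.1 hq
      have hfin : IsOfFinOrder g := isOfFinOrder_of_finite g
      obtain ⟨m, hm⟩ := (hfin.mem_powers_iff_mem_zpowers.2 (zpow_mem (mem_zpowers g) i))
      show g ^ i • v ∈ Z'
      rw [← show g ^ m = g ^ i from hm]
      clear hm
      induction m with
      | zero => rwa [pow_zero, one_smul]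
      | succ m ih => rw [pow_succ', mul_smul, hmemZ']; exact ih
    letI : MulAction (Subgroup.zpowers g) {v : Ω // v ∈ Z'} :=
      { smul := fun q v => ⟨(q : G) • (v : Ω), hz q v v.2⟩
        one_smul := fun v => Subtype.ext (one_smul G (v : Ω))
        mul_smul := fun q q' v => Subtype.ext (mul_smul (q : G) (q' : G) (v : Ω)) }
    rw [← Fintype.card_coe Z', ← Nat.card_eq_fintype_card]
    refine card_dvd_of_free fun q hq v hv' => ?_
    have hv'' : (q : G) • (v : Ω) = v := congrArg Subtype.val hv'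
    have hq1 : (q : G) ≠ 1 := fun e' => hq (Subtype.ext e')
    have hmem := v.2
    simp only [hZ', Finset.mem_erase] at hmem
    have hva : (v : Ω) ≠ a := fun e' => haZ (e' ▸ hmem.2.2)
    have hqT : (q : G) ∈ (T : Subgroup G) := (zpowers_le.2 hgT) q.2
    by_cases hqS : (q : G) ∈ S
    · rcases hK.free _ hqS hq1 _ hv'' with e' | e' | e'
      · exact hva e'
      · exact hmem.2.1 e'
      · exact hmem.1 e'
    · refine hva (Kernel.fix_only hK hqT hqS (fun e' => ?_) hv'')
      obtain ⟨i, hi⟩ := mem_zpowers_iff.1 q.2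
      rw [← hi, ← zpow_add, ← orderOf_dvd_iff_zpow_eq_one, hgo] at e'
      have h4 : (4 : ℤ) ∣ i + i := (by exact_mod_cast (show 4 ∣ 2 ^ e from
        (show 4 ∣ 8 by norm_num).trans h8) : (4 : ℤ) ∣ ((2 ^ e : ℕ) : ℤ)).trans e'
      obtain ⟨d, rfl⟩ : (2 : ℤ) ∣ i := by omega
      refine hqS ?_
      rw [← hi, zpow_mul]
      refine zpow_mem ?_ d
      show g ^ (2 : ℤ) ∈ S
      by_contra hn
      have e2 := (hK.swap _ (zpow_mem hgT 2) hn).1
      rw [zpow_two, mul_smul, hgb, hgb'] at e2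
      exact hK.ne_bb' e2
  have hcases : Z.card = Z'.card ∨ Z.card = Z'.card + 2 := by
    have hiff : b ∈ Z ↔ b' ∈ Z := by
      have := hinv b
      rw [hgb] at this
      exact this.symm
    by_cases hbZ : b ∈ Z
    · right
      rw [hZ', Finset.card_erase_of_mem (Finset.mem_erase.2 ⟨hK.ne_bb'.symm, hiff.1 hbZ⟩),
        Finset.card_erase_of_mem hbZ]
      have := Finset.one_lt_card.2 ⟨b, hbZ, b', hiff.1 hbZ, hK.ne_bb'⟩
      omega
    · left
      rw [hZ', Finset.erase_eq_of_notMem hbZ, Finset.erase_eq_of_notMem fun e' => hbZ (hiff.2 e')]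
  rw [hcount] at hmod
  omega

set_option maxHeartbeats 400000 in
theorem not_quasiDihedral : ¬ Cfsg.IsQuasiDihedral (T : Subgroup G) := by
  rintro ⟨n, -, hcard, x, y, hx, hy, hrel⟩
  haveI := Fintype.ofFinite Ω
  set e := v2 (p - 1) with hedef
  have hn : n = e := by
    rw [← hK.two, hS, ← pow_succ'] at hcard
    have := Nat.pow_right_injective le_rfl hcard
    omega
  subst hn
  have hxo : orderOf (x : G) = 2 ^ e := by rw [Subgroup.orderOf_coe, hx]
  by_cases hxS : (x : G) ∈ S
  swap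
  · exact false_of_generator h h3 hgood hχT hηT hηχ hη1 hηs hπ hu hv hK hS he x.2 hxS hxo
  have hSx : S = Subgroup.zpowers (x : G) :=
    (Subgroup.eq_of_le_of_card_ge (zpowers_le.2 hxS) (by rw [Nat.card_zpowers, hxo, hS])).symm
  have hy2 : y * y = 1 := by
    have h' := pow_orderOf_eq_one y
    rwa [hy, pow_two] at h'
  have hxn : x ^ (2 ^ e) = 1 := by rw [← hx, pow_orderOf_eq_one]
  have hyS : (y : G) ∉ S := by
    intro hyS
    rw [hSx] at hyS
    obtain ⟨i, hi⟩ := mem_zpowers_iff.1 hyS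
    have hc : y * x * y⁻¹ = x := by
      have : y = x ^ i := Subtype.ext (by rw [SubgroupClass.coe_zpow]; exact hi.symm)
      rw [this]; group
    rw [hc] at hrel
    have h1 : x ^ (2 ^ (e - 1) - 2) = 1 := by
      have h2 : x ^ (2 ^ (e - 1) - 1) = x ^ (2 ^ (e - 1) - 2) * x := by
        rw [← pow_succ]
        congr 1
        have : 2 ^ 1 ≤ 2 ^ (e - 1) := Nat.pow_le_pow_right two_pos (by omega)
        omega
      rw [h2] at hrel
      exact mul_eq_right.1 hrel.symm
    have h3' := orderOf_dvd_of_pow_eq_one h1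
    rw [hx] at h3'
    have h4 : 2 ^ 2 ≤ 2 ^ (e - 1) := Nat.pow_le_pow_right two_pos (by omega)
    have := Nat.le_of_dvd (by omega) h3'
    have : 2 ^ (e - 1) < 2 ^ e := Nat.pow_lt_pow_right one_lt_two (by omega)
    omega
  -- an element of order four outside `S` is an odd permutation
  set w : G := (x : G) * y with hw
  have hwT : w ∈ (T : Subgroup G) := mul_mem x.2 y.2
  have hwS : w ∉ S := fun e' => hyS (by simpa [hw] using S.mul_mem (S.inv_mem hxS) e')
  have hww : w * w = (x : G) ^ (2 ^ (e - 1)) := by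
    have e' : x * y * (x * y) = x ^ (2 ^ (e - 1)) := by
      calc x * y * (x * y) = x * (y * x * y⁻¹) * (y * y) := by group
        _ = x ^ (2 ^ (e - 1)) := by
          rw [hrel, hy2, mul_one, ← pow_succ']
          congr 1
          have : 1 ≤ 2 ^ (e - 1) := Nat.one_le_two_pow
          omega
    rw [hw, ← Subgroup.coe_mul, ← Subgroup.coe_mul, e', SubgroupClass.coe_pow]
  have hi2 : orderOf ((x : G) ^ (2 ^ (e - 1))) = 2 := by
    rw [orderOf_pow_of_dvd (by positivity) (by rw [hxo]; exact pow_dvd_pow 2 (by omega)), hxo,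
      Nat.pow_div (by omega) two_pos, show e - (e - 1) = 1 by omega, pow_one]
  have hw2 : w * w ≠ 1 := fun e' => by rw [hww.symm.trans e', orderOf_one] at hi2; omega
  have hw2S : w * w ∈ S := by rw [hww]; exact pow_mem hxS _
  set σ : Equiv.Perm Ω := MulAction.toPermHom G Ω w with hσ
  set ρ := Equiv.swap b b' * σ with hρ
  obtain ⟨hwb, hwb'⟩ := hK.swap w hwT hwS
  have hρa : ρ a = a := by
    rw [hρ, Equiv.Perm.mul_apply, show σ a = a from hK.fix_a w hwT,
      Equiv.swap_apply_of_ne_of_ne hK.ne_ab hK.ne_ab']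
  have hρb : ρ b = b := by
    rw [hρ, Equiv.Perm.mul_apply, show σ b = b' from hwb, Equiv.swap_apply_right]
  have hρb' : ρ b' = b' := by
    rw [hρ, Equiv.Perm.mul_apply, show σ b' = b from hwb', Equiv.swap_apply_left]
  have hρx : ∀ v, v ≠ b → v ≠ b' → ρ v = w • v := fun v h1 h2 => by
    rw [hρ, Equiv.Perm.mul_apply]
    show Equiv.swap b b' (w • v) = w • v
    exact Equiv.swap_apply_of_ne_of_ne (fun e' => h2 (MulAction.injective w (e'.trans hwb'.symm)))
      (fun e' => h1 (MulAction.injective w (e'.trans hwb.symm)))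
  have hρmove : ∀ v, v ≠ a → v ≠ b → v ≠ b' → ρ v ≠ v ∧ ρ (ρ v) ≠ v := by
    intro v h0 h1 h2
    have e1 := hρx v h1 h2
    refine ⟨fun e' => h0 (Kernel.fix_only hK hwT hwS hw2 (e1.symm.trans e')), fun e' => ?_⟩
    have h1' : w • v ≠ b := fun e'' => h2 (MulAction.injective w (e''.trans hwb'.symm))
    have h2' : w • v ≠ b' := fun e'' => h1 (MulAction.injective w (e''.trans hwb.symm))
    rw [e1, hρx _ h1' h2', ← mul_smul] at e'
    rcases hK.free _ hw2S hw2 v e' with q | q | q
    · exact h0 q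
    · exact h1 q
    · exact h2 q
  have hρ4 : ρ ^ 4 = 1 := by
    have h4 : ∀ v, v ≠ b → v ≠ b' → ∀ i : ℕ, (ρ ^ i) v = w ^ i • v := by
      intro v h1 h2 i
      induction i with
      | zero => simp
      | succ i ih =>
        rw [pow_succ', Equiv.Perm.mul_apply, ih, hρx, ← mul_smul, ← pow_succ']
        · intro e'
          rcases Nat.even_or_odd i with ⟨m, hm⟩ | ⟨m, hm⟩
          · have hmS : w ^ i ∈ S := by rw [hm, ← two_mul, pow_mul, pow_two]; exact pow_mem hw2S m
            exact h1 (MulAction.injective (w ^ i) (e'.trans (hK.fix_S _ hmS).1.symm))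
          · have hmS : w ^ (2 * m) ∈ S := by rw [pow_mul, pow_two]; exact pow_mem hw2S m
            rw [hm, pow_succ, mul_smul] at e'
            exact h2 (MulAction.injective w ((MulAction.injective (w ^ (2 * m))
              (e'.trans (hK.fix_S _ hmS).1.symm)).trans hwb'.symm))
        · intro e'
          rcases Nat.even_or_odd i with ⟨m, hm⟩ | ⟨m, hm⟩
          · have hmS : w ^ i ∈ S := by rw [hm, ← two_mul, pow_mul, pow_two]; exact pow_mem hw2S m
            exact h2 (MulAction.injective (w ^ i) (e'.trans (hK.fix_S _ hmS).2.symm))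
          · have hmS : w ^ (2 * m) ∈ S := by rw [pow_mul, pow_two]; exact pow_mem hw2S m
            rw [hm, pow_succ, mul_smul] at e'
            exact h1 (MulAction.injective w ((MulAction.injective (w ^ (2 * m))
              (e'.trans (hK.fix_S _ hmS).2.symm)).trans hwb.symm))
    have hw4 : w ^ 4 = 1 := by
      rw [show 4 = 2 * 2 by norm_num, pow_mul, pow_two w, hww]
      have h' := pow_orderOf_eq_one ((x : G) ^ (2 ^ (e - 1)))
      rwa [hi2] at h'
    refine Equiv.ext fun v => ?_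
    rw [Equiv.Perm.one_apply]
    by_cases h1 : v = b
    · subst h1; exact Equiv.Perm.pow_apply_eq_self_of_apply_eq_self hρb 4
    by_cases h2 : v = b'
    · subst h2; exact Equiv.Perm.pow_apply_eq_self_of_apply_eq_self hρb' 4
    rw [h4 v h1 h2, hw4, one_smul]
  have hct : ρ.cycleType = Multiset.replicate ρ.cycleType.card 4 := by
    refine Multiset.eq_replicate_card.2 fun m hm => ?_
    have hd : m ∣ 4 := (Equiv.Perm.dvd_of_mem_cycleType hm).trans (orderOf_dvd_of_pow_eq_one hρ4)
    have h2le := Equiv.Perm.two_le_of_mem_cycleType hm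
    have := Nat.le_of_dvd (by norm_num) hd
    interval_cases m
    · exfalso
      obtain ⟨c, τ, hρc, hdis, hc, hc2⟩ := Equiv.Perm.mem_cycleType_iff.1 hm
      obtain ⟨v, hv'⟩ : c.support.Nonempty := Finset.card_pos.1 (by omega)
      have hcv : ∀ v ∈ c.support, (c * τ) v = c v := fun v hv' => by
        rw [Equiv.Perm.mul_apply, Equiv.Perm.notMem_support.1 fun e' => Finset.disjoint_left.1 hdis.disjoint_support hv' e']
      have hcc : c (c v) = v := by
        have h' := pow_orderOf_eq_one c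
        rw [hc.orderOf, hc2, pow_two] at h'
        exact congrArg (fun f : Equiv.Perm Ω => f v) h'
      have hm2 : ρ (ρ v) = v := by
        rw [hρc, hcv v hv', hcv _ (Equiv.Perm.apply_mem_support.2 hv'), hcc]
      have hne : ρ v ≠ v := by rw [hρc, hcv v hv']; exact Equiv.Perm.mem_support.1 hv'
      refine (hρmove v ?_ ?_ ?_).2 hm2 <;> rintro rfl
      · exact hne hρa
      · exact hne hρb
      · exact hne hρb'
    · omega
    · rfl
  have hfix : Fintype.card (Function.fixedPoints ρ) = 3 := by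
    rw [← Nat.card_eq_fintype_card, Nat.card_coe_set_eq, Set.ncard_eq_three]
    refine ⟨a, b, b', hK.ne_ab, hK.ne_ab', hK.ne_bb', ?_⟩
    ext v
    simp only [Function.mem_fixedPoints, Function.IsFixedPt, Set.mem_insert_iff, Set.mem_singleton_iff]
    refine ⟨fun hv' => ?_, ?_⟩
    · by_contra hn
      push Not at hn
      exact (hρmove v hn.1 hn.2.1 hn.2.2).1 hv'
    · rintro (rfl | rfl | rfl) <;> assumption
  have hsρ := Equiv.Perm.sign_of_cycleType_eq_replicate (by norm_num) hct
  rw [if_neg (by decide), hfix, ← Nat.card_eq_fintype_card, h.card] at hsρ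
  have hev : Even ((3 * p - 3) / 4) := by
    have h8 : 8 ∣ p - 1 :=
      (show 8 ∣ 2 ^ e by rw [show (8 : ℕ) = 2 ^ 3 by norm_num]; exact pow_dvd_pow 2 he).trans (two_pow_v2_dvd _)
    rw [Nat.even_iff]
    omega
  rw [hev.neg_one_pow] at hsρ
  have hsσ : Equiv.Perm.sign σ = 1 :=
    CfsgLib.Perm.hom_comm_trivial h.na (Equiv.Perm.sign.comp (MulAction.toPermHom G Ω)) w
  rw [hρ, map_mul, Equiv.Perm.sign_swap hK.ne_bb', hsσ, mul_one] at hsρ
  exact absurd hsρ (by decide)

end Hyp

end CfsgLib.DegreeThreeP
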