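import Cfsg.Agent.Lib.DegreeThreeP.Basic
import Cfsg.Agent.Lib.GW.Final
import Cfsg.Agent.Lib.GW.Dne.PSLAut
import Cfsg.Agent.Lib.Classical.Dickson.Classify
import Cfsg.Agent.Lib.Fusion.TwoTypes.PGLTwo
import Cfsg.Agent.S0254

/-!
# Dihedral Sylow `2`-subgroups in degree `3 p` (S3254)

Owner: helper5.

* `Hyp.alt_six_of_dihedral`: with `p C² (2 p - 1) = 2 (p - 1) |G|` the group is `A₆` and `p = 5`.
* `Hyp.false_of_dihedral_three`: the equation of degree `3 p - 1` has no solution.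
-/

set_option autoImplicit false
set_option linter.unusedSectionVars false

namespace CfsgLib.DegreeThreeP

open Subgroup MulAction Matrix

universe u

/-- The only maximal subgroup of index `3 (q + 1) / 2` in `PSL(2, q)`, `q` odd, occurs for `q = 9`. -/
theorem nine_of_coatom {F : Type} [Field F] [Fintype F] {q : ℕ} (hq : Fintype.card F = q) (hodd : Odd q)
    (h9 : 9 ≤ q) (M : Subgroup (ProjectiveSpecialLinearGroup (Fin 2) F)) (hM : IsCoatom M)
    (hc : 3 * Nat.card M = q * (q - 1)) : q = 9 := by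
  classical
  obtain ⟨r, hr⟩ := CharP.exists F
  haveI : Fact r.Prime := ⟨CharP.char_is_prime F r⟩
  obtain ⟨j, rfl⟩ : ∃ j, q = j + 9 := ⟨q - 9, by omega⟩
  rw [show j + 9 - 1 = j + 8 by omega] at hc
  rcases CfsgLib.Classical.Dickson.odd_cases r (hq ▸ hodd) (by omega) M hM with
    h | ⟨-, k, hk, ⟨e⟩⟩ | ⟨-, -, k, hk, ⟨e⟩⟩ | ⟨K, _, _, hK, ⟨e⟩⟩ | ⟨K, _, _, i, hi, hio, hK, ⟨e⟩⟩ |
      ⟨-, -, ⟨e⟩⟩ | ⟨-, -, -, ⟨e⟩⟩ | ⟨-, -, ⟨e⟩⟩
  · rw [hq, show j + 9 - 1 = j + 8 by omega] at h; nlinarith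
  · rw [hq] at hk
    rw [Nat.card_congr e.toEquiv, DihedralGroup.nat_card, hk, show j + 9 - 1 = j + 8 by omega] at hc
    nlinarith
  · rw [hq] at hk
    rw [Nat.card_congr e.toEquiv, DihedralGroup.nat_card, hk] at hc
    nlinarith
  · rw [Nat.card_congr e.toEquiv, CfsgLib.Fusion.TwoTypes.PGLTwo.natCard_pgl] at hc
    rw [hq] at hK
    generalize Fintype.card K = s at hc hK
    have hs3 : 3 ≤ s := by
      by_contra hlt
      interval_cases s <;> omega
    obtain ⟨t, rfl⟩ : ∃ t, s = t + 3 := ⟨s - 3, by omega⟩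
    have e1 : (t + 3) ^ 2 - 1 = j + 8 := by omega
    rw [e1, ← mul_assoc] at hc
    have h2 := Nat.eq_of_mul_eq_mul_right (by omega : 0 < j + 8) hc
    nlinarith
  · exfalso
    have h2 := CfsgLib.Classical.Dickson.gcd_mul_card_psl (F := K) rfl
    rw [Nat.card_congr e.toEquiv] at hc
    rw [hq] at hK
    generalize Fintype.card K = s at h2 hK
    generalize Nat.card (ProjectiveSpecialLinearGroup (Fin 2) K) = N at h2 hc
    have hs : 2 ≤ s := by
      by_contra hlt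
      interval_cases s
      · rw [zero_pow hi.ne_zero] at hK; omega
      · rw [one_pow] at hK; omega
    have hi3 : 3 ≤ i := by
      have := hi.two_le
      rcases hio with ⟨m, rfl⟩; omega
    have hle : N ≤ s * (s ^ 2 - 1) := h2 ▸ Nat.le_mul_of_pos_left _ (Nat.gcd_pos_of_pos_left _ two_pos)
    have hle2 : s ^ 2 - 1 ≤ s ^ 2 := Nat.sub_le _ _
    have hpow : s ^ 3 ≤ j + 9 := hK ▸ Nat.pow_le_pow_right (by omega) hi3
    nlinarith [Nat.mul_le_mul_left s hle2, sq_nonneg (s : ℤ)]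
  · rw [Nat.card_congr e.toEquiv, nat_card_alternatingGroup, Nat.card_eq_fintype_card, Fintype.card_fin] at hc
    have : j ≤ 4 := by
      norm_num [Nat.factorial] at hc
      nlinarith
    interval_cases j <;> simp [Nat.factorial] at hc ⊢
  · rw [Nat.card_congr e.toEquiv, nat_card_alternatingGroup, Nat.card_eq_fintype_card, Fintype.card_fin] at hc
    have : j ≤ 4 := by
      norm_num [Nat.factorial] at hc
      nlinarith
    interval_cases j <;> simp [Nat.factorial] at hc ⊢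
  · rw [Nat.card_congr e.toEquiv, Nat.card_perm, Nat.card_eq_fintype_card, Fintype.card_fin] at hc
    norm_num [Nat.factorial] at hc
    have : j ≤ 1 := by nlinarith
    interval_cases j <;> omega

/-- The arithmetic in degree `2 p - 1`. -/
theorem psl_arith_two {p q : ℕ} {ε : ℤ} (hp : p.Prime) (hp5 : 5 ≤ p) (hε : ε = 1 ∨ ε = -1)
    (hodd : Odd q) (hq3 : 3 < q)
    (h : (p : ℤ) * ((q : ℤ) - ε) * (2 * p - 1) = ((p : ℤ) - 1) * q * (q + ε))
    (hpow : ∀ r : ℕ, r.Prime → r ∣ q → ∃ k, q = r ^ k) : q + 1 = 2 * p := by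
  have hpi := Nat.prime_iff_prime_int.1 hp
  have hnd : ∀ z : ℤ, z ≠ 0 → z.natAbs < p → ¬ (p : ℤ) ∣ z := fun z hz hlt hd => by
    have := Nat.le_of_dvd (Int.natAbs_pos.2 hz) (Int.natCast_dvd.1 hd)
    omega
  have hd : (p : ℤ) ∣ ((p : ℤ) - 1) * (q * ((q : ℤ) + ε)) :=
    ⟨((q : ℤ) - ε) * (2 * p - 1), by rw [← mul_assoc, ← h]; ring⟩
  rcases hpi.dvd_or_dvd ((hpi.dvd_or_dvd hd).resolve_left (fun e => by
    have : (p : ℤ) ∣ 1 := by have := dvd_sub (dvd_refl (p : ℤ)) e; rwa [sub_sub_cancel] at this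
    exact hnd 1 one_ne_zero (by norm_num; omega) this)) with hq | hq
  · exfalso
    obtain ⟨k, rfl⟩ := hpow p hp (Int.natCast_dvd_natCast.1 hq)
    rcases (show k = 0 ∨ k = 1 ∨ 2 ≤ k by omega) with rfl | rfl | hk
    · norm_num at hq3
    · push_cast at h
      rcases hε with rfl | rfl <;> nlinarith [mul_pos (show (0:ℤ) < p by omega) (show (0:ℤ) < p by omega)]
    · obtain ⟨i, hi⟩ : ((p : ℤ) ^ 2) ∣ ((p ^ k : ℕ) : ℤ) := by push_cast; exact pow_dvd_pow _ hk
      have : (p : ℤ) ∣ (((p ^ k : ℕ) : ℤ) - ε) * (2 * p - 1) :=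
        ⟨((p : ℤ) - 1) * i * (((p ^ k : ℕ) : ℤ) + ε), by
          refine mul_left_cancel₀ (show (p : ℤ) ≠ 0 by omega) ?_
          rw [← mul_assoc, h]
          linear_combination (((p : ℤ) - 1) * (((p ^ k : ℕ) : ℤ) + ε)) * hi⟩
      rcases hpi.dvd_or_dvd this with e | e
      · have h1 := dvd_sub hq e
        rw [sub_sub_cancel] at h1
        exact hnd ε (by rcases hε with rfl | rfl <;> norm_num) (by rcases hε with rfl | rfl <;> norm_num <;> omega) h1
      · have h1 := dvd_sub (dvd_mul_left (p : ℤ) 2) e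
        rw [sub_sub_cancel] at h1
        exact hnd 1 one_ne_zero (by norm_num; omega) h1
  · obtain ⟨j, hj⟩ := hq
    have hj2 : 2 ≤ j := by
      rcases (show j ≤ 0 ∨ j = 1 ∨ 2 ≤ j by omega) with c | c | c
      · have : (p : ℤ) * j ≤ 0 := mul_nonpos_of_nonneg_of_nonpos (Int.natCast_nonneg p) c
        rcases hε with rfl | rfl <;> omega
      · subst c
        obtain ⟨m, hm⟩ := hodd
        obtain ⟨n, hn⟩ := hp.odd_of_ne_two (by omega)
        rcases hε with rfl | rfl <;> omega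
      · exact c
    have e1 : ((q : ℤ) - ε) * (2 * p - 1) = ((p : ℤ) - 1) * q * j := by
      refine mul_left_cancel₀ (show (p : ℤ) ≠ 0 by omega) ?_
      rw [← mul_assoc, h, hj]; ring
    have h2 : (q : ℤ) ∣ ε * (2 * p - 1) :=
      ⟨(2 * p - 1) - ((p : ℤ) - 1) * j, by linear_combination -e1⟩
    have h3 : (q : ℤ) ∣ 2 * (p : ℤ) - 1 := by
      rcases hε with rfl | rfl
      · simpa using h2
      · rwa [neg_one_mul, dvd_neg] at h2
    have h4 := Int.le_of_dvd (by omega) h3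
    have h5 : 2 * (p : ℤ) ≤ (p : ℤ) * j := by nlinarith
    rcases hε with rfl | rfl <;> omega

/-- The arithmetic in degree `3 p - 1`. -/
theorem psl_arith_three {p q : ℕ} {ε : ℤ} (hp : p.Prime) (hp5 : 5 ≤ p) (hp4 : p % 4 = 1) (hε : ε = 1 ∨ ε = -1)
    (hodd : Odd q) (hq3 : 3 < q) (h4 : (4 : ℤ) ∣ (q : ℤ) - ε)
    (h : 2 * (p : ℤ) * ((q : ℤ) - ε) * ((3 * p - 1) * (3 * p - 2)) = 9 * ((p : ℤ) - 1) ^ 2 * q * (q + ε))
    (hpow : ∀ r : ℕ, r.Prime → r ∣ q → ∃ k, q = r ^ k) : False := by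
  have hpi := Nat.prime_iff_prime_int.1 hp
  have hnd : ∀ z : ℤ, z ≠ 0 → z.natAbs < p → ¬ (p : ℤ) ∣ z := fun z hz hlt hd => by
    have := Nat.le_of_dvd (Int.natAbs_pos.2 hz) (Int.natCast_dvd.1 hd)
    omega
  have h3 : ¬ (p : ℤ) ∣ 3 := hnd 3 (by norm_num) (by norm_num; omega)
  have hd : (p : ℤ) ∣ ((p : ℤ) - 1) * (((p : ℤ) - 1) * ((3 * 3) * (q * ((q : ℤ) + ε)))) :=
    ⟨2 * ((q : ℤ) - ε) * ((3 * p - 1) * (3 * p - 2)), by linear_combination -h⟩
  have hp1 : ¬ (p : ℤ) ∣ (p : ℤ) - 1 := fun e => by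
    have := dvd_sub (dvd_refl (p : ℤ)) e
    rw [sub_sub_cancel] at this
    exact hnd 1 one_ne_zero (by norm_num; omega) this
  rcases hpi.dvd_or_dvd ((hpi.dvd_or_dvd ((hpi.dvd_or_dvd ((hpi.dvd_or_dvd hd).resolve_left hp1)).resolve_left
    hp1)).resolve_left (fun e => h3 ((hpi.dvd_or_dvd e).elim id id))) with hq | hq
  · obtain ⟨k, rfl⟩ := hpow p hp (Int.natCast_dvd_natCast.1 hq)
    rcases (show k = 0 ∨ k = 1 ∨ 2 ≤ k by omega) with rfl | rfl | hk
    · norm_num at hq3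
    · simp only [Nat.cast_pow, pow_one] at h h4
      have hε1 : ε = 1 := hε.resolve_right fun e => by
        rw [e] at h4
        obtain ⟨c, hc⟩ := h4
        omega
      subst hε1
      nlinarith [mul_pos (show (0:ℤ) < p by omega) (mul_pos (show (0:ℤ) < (p:ℤ) - 1 by omega) (show (0:ℤ) < p by omega))]
    · obtain ⟨i, hi⟩ : ((p : ℤ) ^ 2) ∣ ((p ^ k : ℕ) : ℤ) := by push_cast; exact pow_dvd_pow _ hk
      have : (p : ℤ) ∣ 2 * ((((p ^ k : ℕ) : ℤ) - ε) * ((3 * p - 1) * (3 * p - 2))) :=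
        ⟨9 * ((p : ℤ) - 1) ^ 2 * i * (((p ^ k : ℕ) : ℤ) + ε), by
          refine mul_left_cancel₀ (show (p : ℤ) ≠ 0 by omega) ?_
          linear_combination h + (9 * ((p : ℤ) - 1) ^ 2 * (((p ^ k : ℕ) : ℤ) + ε)) * hi⟩
      rcases hpi.dvd_or_dvd ((hpi.dvd_or_dvd this).resolve_left (hnd 2 two_ne_zero (by norm_num; omega))) with e | e
      · have h1 := dvd_sub hq e
        rw [sub_sub_cancel] at h1
        exact hnd ε (by rcases hε with rfl | rfl <;> norm_num) (by rcases hε with rfl | rfl <;> norm_num <;> omega) h1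
      · rcases hpi.dvd_or_dvd e with e | e
        · have h1 := dvd_sub (dvd_mul_left (p : ℤ) 3) e
          rw [sub_sub_cancel] at h1
          exact hnd 1 one_ne_zero (by norm_num; omega) h1
        · have h1 := dvd_sub (dvd_mul_left (p : ℤ) 3) e
          rw [sub_sub_cancel] at h1
          exact hnd 2 two_ne_zero (by norm_num; omega) h1
  · obtain ⟨j, hj⟩ := hq
    have hj2 : 2 ≤ j := by
      rcases (show j ≤ 0 ∨ j = 1 ∨ 2 ≤ j by omega) with c | c | c
      · have : (p : ℤ) * j ≤ 0 := mul_nonpos_of_nonneg_of_nonpos (Int.natCast_nonneg p) c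
        rcases hε with rfl | rfl <;> omega
      · subst c
        obtain ⟨m, hm⟩ := hodd
        rcases hε with rfl | rfl <;> omega
      · exact c
    have e1 : 2 * ((q : ℤ) - ε) * ((3 * p - 1) * (3 * p - 2)) = 9 * ((p : ℤ) - 1) ^ 2 * q * j := by
      refine mul_left_cancel₀ (show (p : ℤ) ≠ 0 by omega) ?_
      linear_combination h + (9 * ((p : ℤ) - 1) ^ 2 * q) * hj
    rcases (show j = 2 ∨ j = 3 ∨ 4 ≤ j by omega) with rfl | rfl | hj4
    · obtain ⟨c, hc⟩ := h4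
      have hq' : (q : ℤ) = 2 * p - ε := by linarith
      rw [hq'] at e1
      rcases hε with rfl | rfl <;>
        nlinarith [mul_pos (show (0:ℤ) < p by omega) (mul_pos (show (0:ℤ) < p by omega) (show (0:ℤ) < p by omega))]
    · obtain ⟨m, hm⟩ := hodd
      rcases hε with rfl | rfl <;> omega
    · have hq' : (q : ℤ) = p * j - ε := by linarith
      have hp5' : (5 : ℤ) ≤ p := by exact_mod_cast hp5
      have hA : (3 * (p:ℤ) - 1) * (3 * p - 2) ≤ 9 * p ^ 2 := by nlinarith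
      have hB : 16 * (p:ℤ) ^ 2 ≤ 25 * (p - 1) ^ 2 := by nlinarith
      have hq19 : 19 ≤ (q : ℤ) := by rcases hε with rfl | rfl <;> nlinarith
      have hqε : 0 ≤ (q : ℤ) - ε ∧ (q : ℤ) - ε ≤ q + 1 := by rcases hε with rfl | rfl <;> constructor <;> linarith
      have hL : 2 * ((q : ℤ) - ε) * ((3 * p - 1) * (3 * p - 2)) ≤ 18 * ((q : ℤ) + 1) * p ^ 2 := by
        have := mul_le_mul_of_nonneg_left hA (show (0:ℤ) ≤ 2 * ((q : ℤ) - ε) by linarith [hqε.1])
        nlinarith [mul_le_mul_of_nonneg_right hqε.2 (show (0:ℤ) ≤ 18 * (p:ℤ) ^ 2 by positivity)]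
      have hR : 36 * ((p : ℤ) - 1) ^ 2 * q ≤ 9 * ((p : ℤ) - 1) ^ 2 * q * j := by
        have := mul_le_mul_of_nonneg_left hj4 (show (0:ℤ) ≤ 9 * ((p : ℤ) - 1) ^ 2 * q by positivity)
        linarith
      have hR2 : 576 * (p : ℤ) ^ 2 * q ≤ 25 * (36 * ((p : ℤ) - 1) ^ 2 * q) := by
        have := mul_le_mul_of_nonneg_right hB (show (0:ℤ) ≤ 36 * (q:ℤ) by positivity)
        linarith
      nlinarith [mul_pos (show (0:ℤ) < (p:ℤ) ^ 2 by positivity) (show (0:ℤ) < 126 * (q:ℤ) - 450 by linarith)]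

variable {G : Type u} {Ω : Type*} [Group G] [Finite G] [IsSimpleGroup G] [MulAction G Ω] [Finite Ω]
  {p : ℕ} [Fact p.Prime] {P : Sylow p G}

namespace Hyp

variable (h : Hyp G Ω p P)
include h

/-- The groups with dihedral Sylow `2`-subgroups. -/
theorem psl_or_seven (T : Sylow 2 G) {n : ℕ} (hn : 2 ≤ n)
    (hT : Nonempty ((T : Subgroup G) ≃* DihedralGroup n)) :
    (∃ (F : Type) (_ : Field F) (_ : Fintype F), Odd (Fintype.card F) ∧ 3 < Fintype.card F ∧
        Nonempty (G ≃* ProjectiveSpecialLinearGroup (Fin 2) F)) ∨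
      Nat.card G = 2520 := by
  have hO : Cfsg.oddCore G = ⊥ := by
    rcases Subgroup.Normal.eq_bot_or_eq_top (inferInstance : (Cfsg.oddCore G).Normal) with e | e
    · exact e
    · exfalso
      have h1 := Nat.coprime_two_right.1 (CfsgLib.Core.coprime_card_pPrimeCore 2 G)
      rw [show Cfsg.pPrimeCore 2 G = ⊤ from e, card_top] at h1
      exact Nat.not_even_iff_odd.2 h1 (even_iff_two_dvd.2 h.even_card)
  haveI : Group.IsPerfect G := ⟨h.perf⟩
  let e := (QuotientGroup.quotientMulEquivOfEq hO).trans QuotientGroup.quotientBot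
  rcases CfsgLib.GW.Final.gwStatement G T n hn hT with ⟨F, iF, iFF, hodd, h3, ⟨g⟩⟩ | ⟨⟨g⟩⟩
  · exact Or.inl ⟨F, iF, iFF, hodd, h3, ⟨e.symm.trans g⟩⟩
  · refine Or.inr ?_
    rw [Nat.card_congr (e.symm.trans g).toEquiv, nat_card_alternatingGroup, Nat.card_eq_fintype_card,
      Fintype.card_fin]
    rfl

/-- Order and involution centraliser of `PSL(2, q)`. -/
theorem psl_data {F : Type} [Field F] [Fintype F] (hodd : Odd (Fintype.card F))
    (e : G ≃* ProjectiveSpecialLinearGroup (Fin 2) F) {t : G} (ht : orderOf t = 2) :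
    ∃ ε : ℤ, (ε = 1 ∨ ε = -1) ∧ (4 : ℤ) ∣ (Fintype.card F : ℤ) - ε ∧
      (Nat.card (centralizer ({t} : Set G)) : ℤ) = Fintype.card F - ε ∧
      2 * (Nat.card G : ℤ) = Fintype.card F * (((Fintype.card F : ℤ) - ε) * ((Fintype.card F : ℤ) + ε)) := by
  have h2 : (2 : F) ≠ 0 := by
    intro h0
    haveI : CharP F 2 := CharTwo.of_one_ne_zero_of_two_eq_zero one_ne_zero h0
    obtain ⟨m, -, hm⟩ := FiniteField.card F 2
    rw [hm, Nat.odd_iff] at hodd
    have : 2 ∣ 2 ^ (m : ℕ) := dvd_pow_self 2 m.ne_zero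
    omega
  obtain ⟨ε, hε, h4, hidx, hC⟩ := CfsgLib.GW.Dne.PSLAut.card_centralizer_involution h2 (x := e t)
    (by rw [e.orderOf_eq, ht])
  have hcc : Nat.card (centralizer ({t} : Set G)) = Nat.card (centralizer ({e t} : Set _)) := by
    refine Nat.card_congr (e.toEquiv.subtypeEquiv fun x => ?_)
    simp only [mem_centralizer_singleton_iff, MulEquiv.toEquiv_eq_coe, EquivLike.coe_coe, ← map_mul,
      EmbeddingLike.apply_eq_iff_eq]
  refine ⟨ε, hε, h4, by rw [hcc, hC], ?_⟩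
  rw [Nat.card_congr e.toEquiv, ← (centralizer ({e t} : Set _)).card_mul_index]
  push_cast
  rw [hC]
  linear_combination ((Fintype.card F : ℤ) - ε) * hidx

/-- In degree `2 p - 1`. -/
theorem alt_six_of_dihedral (hprim : IsPreprimitive G Ω) (T : Sylow 2 G) {n : ℕ} (hn : 2 ≤ n)
    (hT : Nonempty ((T : Subgroup G) ≃* DihedralGroup n)) {t : G} (ht : orderOf t = 2)
    (heq : p * Nat.card (centralizer ({t} : Set G)) ^ 2 * (2 * p - 1) = Nat.card G * (2 * (p - 1))) :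
    p = 5 ∧ Nonempty (G ≃* alternatingGroup (Fin 6)) := by
  have hp5 := h.five
  rcases h.psl_or_seven T hn hT with ⟨F, _, _, hodd, hq3, ⟨e⟩⟩ | h7
  swap
  · exfalso
    rw [h7] at heq
    have hpd : p ∣ 2520 := h7 ▸ h.dvd_card
    have h7' : p = 5 ∨ p = 7 := by
      have h' : p ∣ 2 ^ 3 * (3 ^ 2 * (5 * 7)) := by norm_num; exact hpd
      rcases h.prime.dvd_mul.1 h' with d | d
      · have := (Nat.prime_dvd_prime_iff_eq h.prime Nat.prime_two).1 (h.prime.dvd_of_dvd_pow d); omega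
      rcases h.prime.dvd_mul.1 d with d | d
      · have := (Nat.prime_dvd_prime_iff_eq h.prime Nat.prime_three).1 (h.prime.dvd_of_dvd_pow d); omega
      rcases h.prime.dvd_mul.1 d with d | d
      · exact Or.inl ((Nat.prime_dvd_prime_iff_eq h.prime (by norm_num)).1 d)
      · exact Or.inr ((Nat.prime_dvd_prime_iff_eq h.prime (by norm_num)).1 d)
    generalize Nat.card (centralizer ({t} : Set G)) = C at heq
    rcases h7' with rfl | rfl
    · norm_num at heq
      rcases Nat.lt_or_ge C 22 with c | c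
      · have : C ^ 2 ≤ 21 ^ 2 := Nat.pow_le_pow_left (by omega) 2; omega
      · have : 22 ^ 2 ≤ C ^ 2 := Nat.pow_le_pow_left c 2; omega
    · norm_num at heq; omega
  obtain ⟨ε, hε, h4, hC, hG⟩ := h.psl_data hodd e ht
  set q := Fintype.card F with hq
  have hC0 : ((q : ℤ) - ε) ≠ 0 := by rw [← hC]; exact_mod_cast Nat.card_pos.ne'
  have hZ : (p : ℤ) * ((q : ℤ) - ε) * (2 * p - 1) = ((p : ℤ) - 1) * q * (q + ε) := by
    have h' := congrArg (fun k : ℕ => (k : ℤ)) heq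
    push_cast [Nat.cast_sub (show 1 ≤ 2 * p by omega), Nat.cast_sub (show 1 ≤ p by omega)] at h'
    rw [hC] at h'
    refine mul_left_cancel₀ hC0 ?_
    linear_combination h' + ((p : ℤ) - 1) * hG
  have hqp := psl_arith_two h.prime hp5 hε hodd hq3 hZ fun r hr hd => by
    obtain ⟨c, hc⟩ := CharP.exists F
    obtain ⟨k, hcp, hk⟩ := FiniteField.card F c
    exact ⟨k, by rw [hq, hk] at hd ⊢; rw [(Nat.prime_dvd_prime_iff_eq hr hcp).1 (hr.dvd_of_dvd_pow hd)]⟩
  haveI := hprim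
  haveI : Nontrivial Ω := Finite.one_lt_card_iff_nontrivial.1 (by rw [h.card]; omega)
  obtain ⟨a⟩ : Nonempty Ω := inferInstance
  have hM := IsPreprimitive.isCoatom_stabilizer_of_isPreprimitive G a
  have hM' : IsCoatom ((stabilizer G a).map (e : G →* ProjectiveSpecialLinearGroup (Fin 2) F)) :=
    ((e.mapSubgroup).isCoatom_iff (stabilizer G a)).2 hM
  have hq9 := nine_of_coatom rfl hodd (by omega) _ hM' (by
    rw [card_map_of_injective e.injective]
    have hidx := h.card_index a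
    have hgc := CfsgLib.Classical.Dickson.gcd_mul_card_psl (F := F) rfl
    rw [← Nat.card_congr e.toEquiv, ← hidx, Nat.gcd_eq_left (show 2 ∣ Fintype.card F - 1 by omega)] at hgc
    obtain ⟨j, hj⟩ : ∃ j, q = j + 1 := ⟨q - 1, by omega⟩
    rw [← hq, hj] at hgc ⊢
    rw [show (j + 1) ^ 2 - 1 = j * (j + 2) by rw [show (j + 1) ^ 2 = j * (j + 2) + 1 by ring]; omega] at hgc
    rw [Nat.add_sub_cancel]
    refine Nat.eq_of_mul_eq_mul_left (show 0 < j + 2 by omega) ?_
    have hp' : j + 2 = 2 * p := by omega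
    rw [hp'] at hgc ⊢
    linear_combination hgc)
  obtain ⟨φ⟩ := Cfsg.Agent.S0254.result (F := F) hq9
  exact ⟨by omega, ⟨e.trans φ⟩⟩

/-- In degree `3 p - 1` with three fixed points. -/
theorem false_of_dihedral_three (hp4 : p % 4 = 1) (T : Sylow 2 G) {n : ℕ} (hn : 2 ≤ n)
    (hT : Nonempty ((T : Subgroup G) ≃* DihedralGroup n)) {t : G} (ht : orderOf t = 2)
    (heq : p * Nat.card (centralizer ({t} : Set G)) ^ 2 * ((3 * p - 1) * (3 * p - 2)) =
      Nat.card G * (9 * (p - 1) ^ 2)) : False := by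
  have hp5 := h.five
  rcases h.psl_or_seven T hn hT with ⟨F, _, _, hodd, hq3, ⟨e⟩⟩ | h7
  swap
  · rw [h7] at heq
    have hpd : p ∣ 2520 := h7 ▸ h.dvd_card
    have h7' : p = 5 := by
      have h' : p ∣ 2 ^ 3 * (3 ^ 2 * (5 * 7)) := by norm_num; exact hpd
      rcases h.prime.dvd_mul.1 h' with d | d
      · have := (Nat.prime_dvd_prime_iff_eq h.prime Nat.prime_two).1 (h.prime.dvd_of_dvd_pow d); omega
      rcases h.prime.dvd_mul.1 d with d | d
      · have := (Nat.prime_dvd_prime_iff_eq h.prime Nat.prime_three).1 (h.prime.dvd_of_dvd_pow d); omega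
      rcases h.prime.dvd_mul.1 d with d | d
      · exact (Nat.prime_dvd_prime_iff_eq h.prime (by norm_num)).1 d
      · have := (Nat.prime_dvd_prime_iff_eq h.prime (by norm_num : Nat.Prime 7)).1 d; omega
    subst h7'
    generalize Nat.card (centralizer ({t} : Set G)) = C at heq
    norm_num at heq
    omega
  obtain ⟨ε, hε, h4, hC, hG⟩ := h.psl_data hodd e ht
  set q := Fintype.card F with hq
  have hC0 : ((q : ℤ) - ε) ≠ 0 := by rw [← hC]; exact_mod_cast Nat.card_pos.ne'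
  have hZ : 2 * (p : ℤ) * ((q : ℤ) - ε) * ((3 * p - 1) * (3 * p - 2)) =
      9 * ((p : ℤ) - 1) ^ 2 * q * (q + ε) := by
    have h' := congrArg (fun k : ℕ => (k : ℤ)) heq
    push_cast [Nat.cast_sub (show 1 ≤ 3 * p by omega), Nat.cast_sub (show 2 ≤ 3 * p by omega),
      Nat.cast_sub (show 1 ≤ p by omega)] at h'
    rw [hC] at h'
    refine mul_left_cancel₀ hC0 ?_
    linear_combination 2 * h' + 9 * ((p : ℤ) - 1) ^ 2 * hG
  exact psl_arith_three h.prime hp5 hp4 hε hodd hq3 h4 hZ fun r hr hd => by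
    obtain ⟨c, hc⟩ := CharP.exists F
    obtain ⟨k, hcp, hk⟩ := FiniteField.card F c
    exact ⟨k, by rw [hq, hk] at hd ⊢; rw [(Nat.prime_dvd_prime_iff_eq hr hcp).1 (hr.dvd_of_dvd_pow hd)]⟩

end Hyp

end CfsgLib.DegreeThreeP
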