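import Cfsg.Agent.Lib.DegreeThreeP.Basic
import Cfsg.Agent.Lib.Perm.ItoDegreeTwoP
import Cfsg.Agent.Lib.CharDegree.Basic

/-!
# The case of a principal character of degree `p - 1` (S3254)

Owner: helper5.

* `Hyp.false_of_degree_pred`: a primitive group of degree `3 p` has no such character.
-/

set_option autoImplicit false
set_option linter.unusedSectionVars false

namespace CfsgLib.DegreeThreeP

open Subgroup MulAction CfsgLib.Perm CfsgLib.Char Cfsg

/-- No maximal subgroup of `PSL(2, 2^m)`, `m ≥ 3`, has order `2^m (2^m - 1) / 3`. -/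
theorem no_coatom_third {F : Type} [Field F] [Fintype F] {q : ℕ} (hF : Fintype.card F = q) (heven : Even q)
    (h8 : 8 ≤ q) (M : Subgroup (Matrix.ProjectiveSpecialLinearGroup (Fin 2) F)) (hM : IsCoatom M)
    (hcard : 3 * Nat.card M = q * (q - 1)) : False := by
  rcases CfsgLib.Classical.Dickson.even_cases (hF ▸ heven) (by omega) M hM with
    h | ⟨⟨e⟩⟩ | ⟨⟨e⟩⟩ | ⟨F₀, _, _, r, hr, hne2, hpow, ⟨e⟩⟩
  · rw [h, hF] at hcard
    have : 0 < q * (q - 1) := Nat.mul_pos (by omega) (by omega)
    omega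
  · rw [Nat.card_congr e.toEquiv, DihedralGroup.nat_card, hF] at hcard
    have : 8 * (q - 1) ≤ q * (q - 1) := Nat.mul_le_mul_right _ h8
    omega
  · rw [Nat.card_congr e.toEquiv, DihedralGroup.nat_card, hF] at hcard
    obtain ⟨j, rfl⟩ : ∃ j, q = j + 8 := ⟨q - 8, by omega⟩
    rw [show j + 8 - 1 = j + 7 by omega] at hcard
    nlinarith
  · have h2 := CfsgLib.Classical.Dickson.gcd_mul_card_psl (F := F₀) rfl
    rw [Nat.card_congr e.toEquiv] at hcard
    generalize Fintype.card F₀ = q₀ at *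
    have hq₀e : q₀ % 2 = 0 := by
      have h' : Even (q₀ ^ r) := hpow ▸ hF ▸ heven
      exact Nat.even_iff.1 (Nat.even_pow.1 h').1
    have hq₀0 : q₀ ≠ 0 := fun e' => by rw [e', zero_pow hr.ne_zero] at hpow; omega
    have hq4 : 4 ≤ q₀ := by omega
    have hle : Nat.card (Matrix.ProjectiveSpecialLinearGroup (Fin 2) F₀) ≤ q₀ * (q₀ ^ 2 - 1) := by
      rw [← h2]
      exact Nat.le_mul_of_pos_left _ (Nat.gcd_pos_of_pos_left _ two_pos)
    have hqr : q₀ ^ 2 ≤ q := by
      rw [← hF, hpow]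
      exact Nat.pow_le_pow_right (by omega) hr.two_le
    have h3 : q₀ ^ 2 * (q₀ ^ 2 - 1) ≤ q * (q - 1) := Nat.mul_le_mul hqr (by omega)
    have h4 : 4 * q₀ * (q₀ ^ 2 - 1) ≤ q₀ ^ 2 * (q₀ ^ 2 - 1) := Nat.mul_le_mul_right _ (by nlinarith)
    have h16 : 16 ≤ q₀ ^ 2 := by nlinarith
    have h5 : 0 < q₀ * (q₀ ^ 2 - 1) := Nat.mul_pos (by omega) (by omega)
    nlinarith

variable {G Ω : Type*} [Group G] [Fintype G] [IsSimpleGroup G] [MulAction G Ω] [Finite Ω]
  {p : ℕ} [Fact p.Prime] {P : Sylow p G}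

namespace Hyp

variable (h : Hyp G Ω p P)
include h

/-- No maximal point stabiliser of index `15` in a simple group of order `60`. -/
theorem false_of_card_sixty (hcard : Nat.card G = 60) {x : Ω} (hM : IsCoatom (stabilizer G x))
    (h4 : Nat.card (stabilizer G x) = 4) : False := by
  haveI := Fact.mk Nat.prime_two
  have hfac : (Nat.card G).factorization 2 = 2 := by
    show v2 (Nat.card G) = 2
    rw [hcard, show 60 = 2 ^ 2 * 15 by rfl, v2_mul (by norm_num) (by norm_num), v2_pow, v2_two,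
      v2_of_odd (by norm_num)]
  let S : Sylow 2 G := Sylow.ofCard (stabilizer G x) (by rw [h4, hfac]; rfl)
  have hS : (S : Subgroup G) = stabilizer G x := rfl
  haveI : IsMulCommutative (stabilizer G x) :=
    IsPGroup.isMulCommutative_of_card_eq_prime_sq (p := 2) (by rw [h4]; rfl)
  have hN : normalizer ((stabilizer G x : Subgroup G) : Set G) = stabilizer G x := by
    rcases (le_normalizer (H := stabilizer G x)).eq_or_lt with e | hlt
    · exact e.symm
    · exfalso
      haveI : (stabilizer G x).Normal := normalizer_eq_top_iff.1 (hM.2 _ hlt)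
      rcases (inferInstance : (stabilizer G x).Normal).eq_bot_or_eq_top with e | e
      · rw [e, card_bot] at h4; omega
      · exact hM.1 e
  refine not_normalizer_le_centralizer S (hcard ▸ by norm_num) (fun hP => ?_) ?_
  · obtain ⟨k, hk⟩ := IsPGroup.iff_card.1 hP
    have h15 : 15 ∣ 2 ^ k := hk ▸ hcard ▸ by norm_num
    have := Nat.Coprime.eq_one_of_dvd (Nat.Coprime.pow_right k (by norm_num : Nat.Coprime 15 2)) h15
    omega
  · rw [hS, hN]
    exact le_centralizer_iff_isMulCommutative.2 inferInstance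

/-- No character of degree `p - 1` in the primitive case. -/
theorem false_of_degree_pred (hprim : IsPreprimitive G Ω) (χ : IrrCharacter G)
    (hdeg : charDegree (χ : G → ℂ) = p - 1)
    (hx : ∀ x ∈ FewSylow.star (P : Subgroup G), (χ : G → ℂ) x ≠ 0) : False := by
  have hp5 := h.five
  have hpp := h.prime
  obtain ⟨a, t, n, F⟩ := h.exists_frame_two
  have hfaith : ∀ g : G, (χ : G → ℂ) g = (χ : G → ℂ) 1 → g = 1 := by
    intro g hg
    have hgK := CfsgLib.CharDegree.mem_kerSubgroup.2 hg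
    rcases (CfsgLib.CharDegree.kerSubgroup_normal χ).eq_bot_or_eq_top with e | e
    · rw [e] at hgK; exact mem_bot.1 hgK
    · exfalso
      obtain ⟨x, hxs⟩ : (FewSylow.star (P : Subgroup G)).Nonempty :=
        Finset.card_pos.1 (by rw [F.card_Pstar]; have := F.et; omega)
      have h1 := (FewSylowTwo.values F hp5 χ hdeg hx).1 x hxs
      rw [CfsgLib.CharDegree.mem_kerSubgroup.1 (e ▸ mem_top x : x ∈ CfsgLib.CharDegree.kerSubgroup χ),
        ← CfsgLib.CharDegree.cast_irrDegree, hdeg] at h1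
      have h2 : ((p - 1 + 1 : ℕ) : ℂ) = ((0 : ℕ) : ℂ) := by push_cast at h1 ⊢; linear_combination h1
      have := Nat.cast_inj.1 h2
      omega
  obtain ⟨hn, hiso⟩ := FewSylowTwo.classify hp5 h.card_P h.centralizer_P h.perf F χ hdeg hx hfaith
  have hn' : 2 * n + 3 = p := by omega
  have hG : Nat.card G = p * ((p - 1) * (p - 2)) := by
    rw [F.cardG]
    obtain ⟨j, hj⟩ : ∃ j, p = j + 2 := ⟨p - 2, by omega⟩
    have e1 : p - 1 = j + 1 := by omega
    have e2 : p - 2 = j := by omega
    rw [e1, e2]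
    obtain rfl : j = 2 * n + 1 := by omega
    rw [hj]; ring
  haveI := hprim
  haveI : Nontrivial Ω := Finite.one_lt_card_iff_nontrivial.1 (by rw [h.card]; omega)
  obtain ⟨u⟩ : Nonempty Ω := inferInstance
  have hM := IsPreprimitive.isCoatom_stabilizer_of_isPreprimitive G u
  have hst : 3 * Nat.card (stabilizer G u) = (p - 1) * (p - 2) := by
    refine Nat.eq_of_mul_eq_mul_left hpp.pos ?_
    rw [← hG, ← h.card_index u]; ring
  rcases eq_or_ne p 5 with hp | hp
  · subst hp
    exact h.false_of_card_sixty (by rw [hG]) hM (by omega)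
  rcases hiso with ⟨K, _, _, hK, -, ⟨f⟩⟩ | ⟨m, K, _, _, hK, hm, -, ⟨f⟩⟩
  · have hg' := CfsgLib.Classical.Dickson.gcd_mul_card_psl (F := K) hK
    rw [← Nat.card_congr f.toEquiv, hG] at hg'
    have hg : Nat.gcd 2 (p - 1) = 2 := by
      refine Nat.gcd_eq_left (even_iff_two_dvd.1 ?_)
      rw [Nat.even_sub hpp.one_le]
      simp [Nat.not_even_iff_odd.2 (hpp.odd_of_ne_two (by omega))]
    obtain ⟨j, hj⟩ : ∃ j, p = j + 2 := ⟨p - 2, by omega⟩
    have e1 : p - 1 = j + 1 := by omega
    have e2 : p - 2 = j := by omega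
    have e3 : p ^ 2 - 1 = (j + 1) * (j + 3) := by
      rw [hj, show (j + 2) ^ 2 = (j + 1) * (j + 3) + 1 by ring]; omega
    rw [hg, e1, e2, e3] at hg'
    have h' : 2 * j = j + 3 := by
      refine Nat.eq_of_mul_eq_mul_left (Nat.mul_pos hpp.pos (show 0 < j + 1 by omega)) ?_
      linear_combination hg'
    omega
  · have hq : p - 1 = 2 ^ m := by omega
    have heven : Even (2 ^ m) := hq ▸ by
      rw [Nat.even_sub hpp.one_le]
      simp [Nat.not_even_iff_odd.2 (hpp.odd_of_ne_two (by omega))]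
    have hM' : IsCoatom ((stabilizer G u).map (f : G →* Matrix.ProjectiveSpecialLinearGroup (Fin 2) K)) :=
      ((f.mapSubgroup).isCoatom_iff (stabilizer G u)).2 hM
    have h8 : 8 ≤ 2 ^ m := by
      rcases Nat.lt_or_ge m 3 with hm3 | hm3
      · interval_cases m <;> omega
      · calc 8 = 2 ^ 3 := rfl
          _ ≤ 2 ^ m := Nat.pow_le_pow_right two_pos hm3
    refine no_coatom_third hK heven h8 _ hM' ?_
    rw [card_map_of_injective f.injective, hst, hq, show p - 2 = 2 ^ m - 1 by omega]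

end Hyp

end CfsgLib.DegreeThreeP
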