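import Cfsg.Agent.Lib.DegreeThreeP.Block
import Cfsg.Agent.Lib.DegreeThreeP.SylowTwo
import Cfsg.Agent.Lib.DegreeThreeP.Orbital
import Cfsg.Agent.Lib.DegreeThreeP.Recog
import Cfsg.Agent.Lib.DegreeThreeP.Bender
import Cfsg.Agent.Lib.DegreeThreeP.Small
import Cfsg.Agent.Lib.DegreeThreeP.Imprimitive

/-!
# Simple groups of degree `3 p` (S3254)

Owner: helper5.

* `Hyp.primitive_case`: a primitive group is `A₆` with `p = 5`, given Bender's theorem (`BenderStmt`).
* `main`: S3254.
-/

set_option autoImplicit false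
set_option linter.unusedSectionVars false

namespace CfsgLib.DegreeThreeP

open Subgroup MulAction CfsgLib.Perm CfsgLib.Char Cfsg

universe u

variable {G : Type u} {Ω : Type*} [Group G] [Fintype G] [IsSimpleGroup G] [MulAction G Ω] [Finite Ω]
  {p : ℕ} [Fact p.Prime] {P : Sylow p G}

namespace Hyp

variable (h : Hyp G Ω p P)
include h

/-- The group has no cyclic Sylow `2`-subgroup of order four. -/
theorem dihedral_of_four (T : Sylow 2 G) (hT : Nat.card (T : Subgroup G) = 4) :
    Nonempty ((T : Subgroup G) ≃* DihedralGroup 2) := by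
  haveI := Fact.mk Nat.prime_two
  have hnc : ¬ IsCyclic (T : Subgroup G) := by
    intro hc
    obtain ⟨H, hH⟩ := CfsgLib.Signalizer.index_two_of_cyclic_sylow (even_iff_two_dvd.2 h.even_card) T hc
    haveI : H.Normal := normal_of_index_eq_two hH
    rcases (inferInstance : H.Normal).eq_bot_or_eq_top with e | e
    · subst e
      rw [index_bot] at hH
      have := Nat.le_of_dvd (by omega) (hH ▸ h.dvd_card)
      have := h.five
      omega
    · subst e
      rw [index_top] at hH
      omega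
  haveI : IsKleinFour (T : Subgroup G) :=
    ⟨hT, (not_isCyclic_iff_exponent_eq_prime Nat.prime_two (by rw [hT]; rfl)).1 hnc⟩
  exact IsKleinFour.nonempty_mulEquiv

/-- Degree `2 p - 1`. -/
theorem case_two (hprim : IsPreprimitive G Ω) {χ η : IrrCharacter G} (hgood : Good P χ (2 * p - 1))
    (hχT : χ ≠ trivChar G) (hηT : η ≠ trivChar G) (hηχ : η ≠ χ) (hη1 : (η : G → ℂ) 1 = (p : ℂ))
    (hηs : ∀ x ∈ FewSylow.star (P : Subgroup G), (η : G → ℂ) x = 0)
    (hπ : ∀ g : G, (Nat.card (fixedBy Ω g) : ℂ) = 1 + (χ : G → ℂ) g + (η : G → ℂ) g) :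
    p = 5 ∧ Nonempty (G ≃* alternatingGroup (Fin 6)) := by
  haveI := Fact.mk Nat.prime_two
  have hp5 := h.five
  have hpp := h.prime
  have hpodd : p % 2 = 1 := Nat.odd_iff.1 (hpp.odd_of_ne_two (by omega))
  obtain ⟨φ, hφ, hφu⟩ := h.fixed_involution
  obtain ⟨a, t, n, F⟩ := h.exists_frame_two
  -- every involution has `χ = 1`
  have hu : ∀ u : G, orderOf u = 2 → (χ : G → ℂ) u = 1 := by
    intro u hu
    obtain ⟨v, hv⟩ := hgood.int u
    have hv' : (χ : G → ℂ) u = (v : ℂ) := hv
    have hw : (η : G → ℂ) u = (((φ : ℤ) - 1 - v : ℤ) : ℂ) := by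
      have e := hπ u
      rw [hφu u hu, hv'] at e
      push_cast
      linear_combination -e
    have h1 := h.norm_value_le F hu hgood.deg hv' (c := -1)
      (fun x hx => by rw [hgood.star x hx]; norm_num)
    have h2 := h.norm_value_le F hu hη1 hw (c := 0) (fun x hx => by rw [hηs x hx]; norm_num)
    have h3 := h.even_deg_add hu hgood.deg hv'
    have h4 := h.even_deg_add hu hη1 hw
    push_cast [Nat.cast_sub (show 1 ≤ 2 * p by omega)] at h1 h3
    have hp0 : (0 : ℤ) < p := by omega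
    have hvb : |v| ≤ 1 := le_of_mul_le_mul_left (by linarith) hp0
    have hwb : |(φ : ℤ) - 1 - v| ≤ 1 := le_of_mul_le_mul_left (by linarith) hp0
    rw [abs_le] at hvb hwb
    have hv1 : v ≠ -1 := by
      intro e
      subst e
      have hc := hgood.count u hu (-1) hv'
      rw [show (((2 * p - 1 : ℕ) : ℤ) - (-1)) = 2 * p by omega, show (((2 * p - 1 : ℕ) : ℤ)) = 2 * p - 1 by omega] at hc
      have hd : (p : ℤ) ∣ (Nat.card (centralizer ({u} : Set G)) : ℤ) ^ 2 * ((2 * p - 1) * ((2 * p - 1) - 1)) :=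
        ⟨4 * Nat.card G, mul_left_cancel₀ hp0.ne' (by rw [← mul_assoc (p : ℤ), hc]; ring)⟩
      have hnd : ∀ z : ℤ, z ≠ 0 → z.natAbs < p → ¬ (p : ℤ) ∣ z := fun z hz hlt hd => by
        have := Nat.le_of_dvd (Int.natAbs_pos.2 hz) (Int.natCast_dvd.1 hd)
        omega
      have hpi := Nat.prime_iff_prime_int.1 hpp
      rcases hpi.dvd_or_dvd hd with d | d
      · exact h.not_dvd_centralizer hu (Int.natCast_dvd_natCast.1 (hpi.dvd_of_dvd_pow d))
      rcases hpi.dvd_or_dvd d with d | d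
      · exact hnd 1 one_ne_zero (by norm_num; omega) (by simpa using dvd_sub (dvd_mul_left (p : ℤ) 2) d)
      · refine hnd 2 two_ne_zero (by norm_num; omega) ?_
        have e := dvd_sub (dvd_mul_left (p : ℤ) 2) d
        rwa [show (2 * p : ℤ) - ((2 * p - 1) - 1) = 2 by ring] at e
    have hv2 : v = 1 := by omega
    rw [hv', hv2, Int.cast_one]
  obtain ⟨u, hu2⟩ := exists_prime_orderOf_dvd_card' (G := G) 2 h.even_card
  have heq : p * Nat.card (centralizer ({u} : Set G)) ^ 2 * (2 * p - 1) = Nat.card G * (2 * (p - 1)) := by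
    have hc := hgood.count u hu2 1 (by rw [hu u hu2, Int.cast_one])
    rw [show (((2 * p - 1 : ℕ) : ℤ) - 1) = ((2 * (p - 1) : ℕ) : ℤ) by omega] at hc
    have h' : (((p * Nat.card (centralizer ({u} : Set G)) ^ 2 * (2 * p - 1)) * (2 * (p - 1)) : ℕ) : ℤ) =
        (((Nat.card G * (2 * (p - 1))) * (2 * (p - 1)) : ℕ) : ℤ) := by
      push_cast at hc ⊢
      linear_combination hc
    exact Nat.eq_of_mul_eq_mul_right (show 0 < 2 * (p - 1) by omega) (Int.natCast_inj.1 h')
  have hv : v2 (Nat.card G) = v2 (p - 1) + 1 := by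
    have h1 := congrArg v2 heq
    rw [v2_mul (mul_ne_zero hpp.ne_zero (pow_ne_zero 2 Nat.card_pos.ne')) (by omega),
      v2_mul hpp.ne_zero (pow_ne_zero 2 Nat.card_pos.ne'), v2_pow, v2_of_odd hpodd, h.v2_centralizer hu2,
      v2_of_odd (show (2 * p - 1) % 2 = 1 by omega), v2_mul Nat.card_pos.ne' (by omega),
      v2_mul two_ne_zero (by omega), v2_two] at h1
    omega
  rcases hφ with ⟨rfl, hp4⟩ | ⟨rfl, hp4⟩
  · -- one fixed point
    have he : v2 (p - 1) = 1 := by
      rw [show p - 1 = 2 * ((p - 1) / 2) by omega, v2_mul two_ne_zero (by omega), v2_two,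
        v2_of_odd (by omega)]
    obtain ⟨T⟩ : Nonempty (Sylow 2 G) := inferInstance
    have hT : Nat.card (T : Subgroup G) = 4 := by
      rw [T.card_eq_multiplicity, show (Nat.card G).factorization 2 = 2 by
        show v2 (Nat.card G) = 2; omega]
      rfl
    exact h.alt_six_of_dihedral hprim T le_rfl (h.dihedral_of_four T hT) hu2 heq
  · -- three fixed points
    obtain ⟨T, S, x, b, b', hK, -⟩ := h.exists_kernel hφu (by omega)
    have hS : Nat.card S = 2 ^ v2 (p - 1) := by
      have h2 := hK.two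
      rw [T.card_eq_multiplicity, show (Nat.card G).factorization 2 = v2 (p - 1) + 1 from hv, pow_succ'] at h2
      omega
    rcases hK.dih_or_qd h hφu hS hp4 with ⟨m, hm, hTm⟩ | hQD
    · exact h.alt_six_of_dihedral hprim T hm hTm hu2 heq
    · exfalso
      obtain ⟨m, hm3, hcard, hrest⟩ := hQD
      have he : v2 (p - 1) = m := by
        rw [← hK.two, hS, ← pow_succ'] at hcard
        have := Nat.pow_right_injective le_rfl hcard
        omega
      exact not_quasiDihedral h hφu hgood hχT hηT hηχ hη1 hηs hπ hu hv hK hS (by omega)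
        ⟨m, hm3, hcard, hrest⟩

/-- Degree `3 p - 1`. -/
theorem case_three (hB : BenderStmt.{u}) {χ : IrrCharacter G} (hgood : Good P χ (3 * p - 1))
    (hπ : ∀ g : G, (Nat.card (fixedBy Ω g) : ℂ) = 1 + (χ : G → ℂ) g) : False := by
  haveI := Fact.mk Nat.prime_two
  have hp5 := h.five
  have hpp := h.prime
  have hpodd : p % 2 = 1 := Nat.odd_iff.1 (hpp.odd_of_ne_two (by omega))
  obtain ⟨φ, hφ, hφu⟩ := h.fixed_involution
  obtain ⟨u, hu⟩ := exists_prime_orderOf_dvd_card' (G := G) 2 h.even_card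
  have hv : (χ : G → ℂ) u = (((φ : ℤ) - 1 : ℤ) : ℂ) := by
    have e := hπ u
    rw [hφu u hu] at e
    push_cast
    linear_combination -e
  have hc := hgood.count u hu _ hv
  rw [show (((3 * p - 1 : ℕ) : ℤ) - 1) = ((3 * p - 2 : ℕ) : ℤ) by omega] at hc
  rcases hφ with ⟨rfl, hp4⟩ | ⟨rfl, hp4⟩
  · refine h.false_of_one_fixed hB hφu hu ?_
    have h' : (((p * Nat.card (centralizer ({u} : Set G)) ^ 2 * (3 * p - 2)) * (3 * p - 1) : ℕ) : ℤ) =
        (((Nat.card G * (3 * p - 1)) * (3 * p - 1) : ℕ) : ℤ) := by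
      push_cast at hc ⊢
      linear_combination hc
    exact Nat.eq_of_mul_eq_mul_right (show 0 < 3 * p - 1 by omega) (Int.natCast_inj.1 h')
  · have heq : p * Nat.card (centralizer ({u} : Set G)) ^ 2 * ((3 * p - 1) * (3 * p - 2)) =
        Nat.card G * (9 * (p - 1) ^ 2) := by
      rw [show (((3 * p - 1 : ℕ) : ℤ) - ((3 : ℕ) - 1 : ℤ)) = 3 * ((p - 1 : ℕ) : ℤ) by omega] at hc
      refine Int.natCast_inj.1 ?_
      push_cast at hc ⊢
      linear_combination hc
    have hN : v2 (Nat.card G) + 1 = 2 * v2 (p - 1) := by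
      have h1 := congrArg v2 heq
      rw [show 3 * p - 1 = 2 * ((3 * p - 1) / 2) by omega,
        v2_mul (mul_ne_zero hpp.ne_zero (pow_ne_zero 2 Nat.card_pos.ne')) (mul_ne_zero (by omega) (by omega)),
        v2_mul hpp.ne_zero (pow_ne_zero 2 Nat.card_pos.ne'), v2_pow, v2_of_odd hpodd, h.v2_centralizer hu,
        v2_mul (mul_ne_zero two_ne_zero (by omega)) (by omega), v2_mul two_ne_zero (by omega), v2_two,
        v2_of_odd (show ((3 * p - 1) / 2) % 2 = 1 by omega), v2_of_odd (show (3 * p - 2) % 2 = 1 by omega),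
        v2_mul Nat.card_pos.ne' (mul_ne_zero (by norm_num) (pow_ne_zero 2 (by omega))),
        v2_mul (by norm_num) (pow_ne_zero 2 (by omega)), v2_of_odd (show 9 % 2 = 1 by norm_num), v2_pow] at h1
      omega
    have he : 2 ≤ v2 (p - 1) := le_v2 (by omega) (by norm_num; omega)
    obtain ⟨T, S, x, b, b', hK, hdvd⟩ := h.exists_kernel hφu (by omega)
    have hT : Nat.card (T : Subgroup G) = 2 ^ v2 (Nat.card G) := T.card_eq_multiplicity
    have hS' : Nat.card S = 2 ^ (v2 (Nat.card G) - 1) := by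
      have h2 := hK.two
      rw [hT, show v2 (Nat.card G) = v2 (Nat.card G) - 1 + 1 by omega, pow_succ'] at h2
      omega
    have he2 : v2 (p - 1) = 2 := by
      rw [hS', show 3 * p - 3 = 3 * (p - 1) by omega] at hdvd
      have h' := le_v2 (by omega) hdvd
      rw [v2_mul three_ne_zero (by omega), v2_of_odd (show 3 % 2 = 1 by norm_num)] at h'
      omega
    have hS : Nat.card S = 2 ^ v2 (p - 1) := by rw [hS']; congr 1; omega
    rcases hK.dih_or_qd h hφu hS hp4 with ⟨m, hm, hTm⟩ | ⟨m, hm3, hcard, -⟩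
    · exact h.false_of_dihedral_three hp4 T hm hTm hu heq
    · rw [hT] at hcard
      have := Nat.pow_right_injective le_rfl hcard
      omega

/-- The primitive case. -/
theorem primitive_case (hB : BenderStmt.{u}) (hprim : IsPreprimitive G Ω) :
    p = 5 ∧ Nonempty (G ≃* alternatingGroup (Fin 6)) := by
  obtain ⟨χ, hχT, ⟨hdeg, hx⟩ | ⟨hgood, η, hηT, hηχ, hη1, hηs, hπ⟩ | ⟨hgood, hπ⟩⟩ := h.block_cases
  · exact (h.false_of_degree_pred hprim χ hdeg hx).elim
  · exact h.case_two hprim hgood hχT hηT hηχ hη1 hηs hπ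
  · exact (h.case_three hB hgood hπ).elim

end Hyp

/-- Simple groups of degree `3 p` whose Sylow `p`-normaliser has order `2 p`, given Bender's theorem. -/
theorem main (hB : BenderStmt.{u}) {G : Type u} {Ω : Type*} [Group G] [Finite G] [IsSimpleGroup G] [MulAction G Ω]
    [Finite Ω] {p : ℕ} [Fact p.Prime] {P : Sylow p G} (h : Hyp G Ω p P) :
    (IsPreprimitive G Ω → p = 5 ∧ Nonempty (G ≃* alternatingGroup (Fin 6))) ∧
      (¬ IsPreprimitive G Ω → ∃ (F : Type) (_ : Field F) (_ : Fintype F) (m : ℕ), Fintype.card F = 2 ^ m ∧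
        p = 2 ^ m + 1 ∧ Nonempty (G ≃* Matrix.ProjectiveSpecialLinearGroup (Fin 2) F)) := by
  haveI := Fintype.ofFinite G
  exact ⟨h.primitive_case hB, h.imprimitive_case⟩

end CfsgLib.DegreeThreeP
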